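import Groth.Prelude.Def_FibCat2

/-!
# Elementary reformulations: strongly cartesian morphisms, equivalences over the base
-/

set_option autoImplicit false
set_option backward.isDefEq.respectTransparency false

open CategoryTheory CategoryTheory.Limits FibCat

universe v₆ u₆ v₅ u₅ v₄ u₄ v₃ u₃ v₂ u₂ v u

namespace K161.Basic

section SC

variable {C : Type u} [Category.{v} C] {𝒳 : Type u₂} [Category.{v₂} 𝒳] (p : 𝒳 ⥤ C)

/-- Elementary form of "strongly cartesian over its image". -/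
def SC {b a : 𝒳} (φ : b ⟶ a) : Prop :=
  ∀ ⦃c : 𝒳⦄ (ψ : c ⟶ a) (h : p.obj c ⟶ p.obj b), h ≫ p.map φ = p.map ψ →
    ∃! χ : c ⟶ b, p.map χ = h ∧ χ ≫ φ = ψ

lemma isHomLift_iff_eq {a b : 𝒳} (f : p.obj a ⟶ p.obj b) (φ : a ⟶ b) :
    p.IsHomLift f φ ↔ p.map φ = f := by
  constructor
  · intro h
    exact (IsHomLift.eq_of_isHomLift p f φ).symm
  · rintro rfl
    infer_instance

lemma sc_iff {b a : 𝒳} (φ : b ⟶ a) : p.IsStronglyCartesian (p.map φ) φ ↔ SC p φ := by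
  constructor
  · intro hφ c ψ h e
    have : p.IsHomLift (h ≫ p.map φ) ψ := by rw [e]; infer_instance
    obtain ⟨χ, ⟨h1, h2⟩, h3⟩ := hφ.universal_property' h ψ
    refine ⟨χ, ⟨(isHomLift_iff_eq p _ _).1 h1, h2⟩, ?_⟩
    rintro χ' ⟨h1', h2'⟩
    exact h3 χ' ⟨(isHomLift_iff_eq p _ _).2 h1', h2'⟩
  · intro hφ
    refine { toIsHomLift := inferInstance, universal_property' := ?_ }
    intro c h ψ hψ
    have e : h ≫ p.map φ = p.map ψ := ((isHomLift_iff_eq p _ _).1 hψ).symm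
    obtain ⟨χ, ⟨h1, h2⟩, h3⟩ := hφ ψ h e
    refine ⟨χ, ⟨(isHomLift_iff_eq p _ _).2 h1, h2⟩, ?_⟩
    rintro χ' ⟨h1', h2'⟩
    exact h3 χ' ⟨(isHomLift_iff_eq p _ _).1 h1', h2'⟩

lemma isStronglyCartesian_iff {R S : C} (f : R ⟶ S) {b a : 𝒳} (φ : b ⟶ a) :
    p.IsStronglyCartesian f φ ↔ p.IsHomLift f φ ∧ SC p φ := by
  constructor
  · intro h
    refine ⟨inferInstance, ?_⟩
    rw [← sc_iff]
    have h' : p.IsHomLift f φ := inferInstance
    obtain ⟨⟩ := h'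
    exact h
  · rintro ⟨h1, h2⟩
    obtain ⟨⟩ := h1
    exact (sc_iff p φ).2 h2

/-- Elementary form of "fibred": every base morphism has a strongly cartesian lift. -/
lemma isFibered_iff : p.IsFibered ↔
    ∀ (a : 𝒳) (R : C) (f : R ⟶ p.obj a), ∃ (b : 𝒳) (φ : b ⟶ a), p.IsHomLift f φ ∧ SC p φ := by
  constructor
  · intro h a R f
    obtain ⟨b, φ, hφ⟩ := IsPreFibered.exists_isCartesian p rfl f
    exact ⟨b, φ, (isStronglyCartesian_iff p f φ).1 inferInstance⟩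
  · intro h
    apply Functor.IsFibered.of_exists_isStronglyCartesian
    intro a R f
    obtain ⟨b, φ, hφ⟩ := h a R f
    exact ⟨b, φ, (isStronglyCartesian_iff p f φ).2 hφ⟩

lemma isFibGrpd_iff : IsFibGrpd p ↔
    (∀ (a : 𝒳) (R : C) (f : R ⟶ p.obj a), ∃ (b : 𝒳) (φ : b ⟶ a), p.IsHomLift f φ) ∧
      ∀ ⦃b a : 𝒳⦄ (φ : b ⟶ a), SC p φ := by
  constructor
  · intro h
    exact ⟨fun a R f => h.exists_lift f, fun b a φ => (sc_iff p φ).1 (h.isStronglyCartesian φ)⟩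
  · rintro ⟨h1, h2⟩
    exact ⟨fun f => h1 _ _ f, fun φ => (sc_iff p φ).2 (h2 φ)⟩

/-- A lift whose target is prescribed, with the source equality recorded by `eqToHom`. -/
lemma isHomLift_iff_exists {R : C} {a b : 𝒳} (f : R ⟶ p.obj a) (φ : b ⟶ a) :
    p.IsHomLift f φ ↔ ∃ h : p.obj b = R, p.map φ = eqToHom h ≫ f := by
  constructor
  · intro h
    refine ⟨IsHomLift.domain_eq p f φ, ?_⟩
    simpa using IsHomLift.fac' p f φ
  · rintro ⟨h, e⟩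
    subst h
    simp only [eqToHom_refl, Category.id_comp] at e
    subst e
    infer_instance

end SC

section UniqueLift

variable {C : Type u} [Category.{v} C] {𝒳 : Type u₂} [Category.{v₂} 𝒳] (p : 𝒳 ⥤ C)

/-- Unique lifting with prescribed target (discrete fibration). -/
def UL : Prop := ∀ (η : 𝒳) (U : C) (f : U ⟶ p.obj η), ∃! φ : (Σ ξ : 𝒳, (ξ ⟶ η)), p.IsHomLift f φ.2

variable {p}

lemma UL.sc (hp : UL p) {b a : 𝒳} (φ : b ⟶ a) : SC p φ := by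
  intro c ψ h e
  obtain ⟨⟨z, χ⟩, h1, h2⟩ := hp b _ h
  dsimp only at h1 h2
  obtain ⟨hz, hχ⟩ := (isHomLift_iff_exists p _ _).1 h1
  -- both `χ ≫ φ` and `ψ` lift `h ≫ p φ`
  obtain ⟨w, hw1, hw2⟩ := hp a _ (h ≫ p.map φ)
  have e1 : (⟨z, χ ≫ φ⟩ : Σ ξ : 𝒳, (ξ ⟶ a)) = w := hw2 _ (by
    have := h1
    infer_instance)
  have e2 : (⟨c, ψ⟩ : Σ ξ : 𝒳, (ξ ⟶ a)) = w := hw2 _ (by
    rw [e]; infer_instance)
  have e3 := e1.trans e2.symm
  obtain ⟨rfl, e4⟩ := Sigma.mk.inj_iff.1 e3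
  have e5 : χ ≫ φ = ψ := eq_of_heq e4
  refine ⟨χ, ⟨(isHomLift_iff_eq p _ _).1 h1, e5⟩, ?_⟩
  rintro χ' ⟨h1', h2'⟩
  have := h2 ⟨_, χ'⟩ ((isHomLift_iff_eq p _ _).2 h1')
  exact eq_of_heq (Sigma.mk.inj_iff.1 this).2

lemma UL.isFibGrpd (hp : UL p) : IsFibGrpd p := by
  rw [isFibGrpd_iff]
  refine ⟨fun a R f => ?_, fun b a φ => hp.sc φ⟩
  obtain ⟨⟨z, χ⟩, h1, -⟩ := hp a R f
  exact ⟨z, χ, h1⟩

/-- Two morphisms with the same target and "the same" image agree, sources included. -/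
lemma UL.eq_of_lift (hp : UL p) {a : 𝒳} {U : C} (f : U ⟶ p.obj a) {b c : 𝒳} (φ : b ⟶ a) (ψ : c ⟶ a)
    [p.IsHomLift f φ] [p.IsHomLift f ψ] : ∃ h : b = c, φ = eqToHom h ≫ ψ := by
  have := (hp a U f).unique (y₁ := ⟨b, φ⟩) (y₂ := ⟨c, ψ⟩) (by assumption) (by assumption)
  obtain ⟨rfl, e⟩ := Sigma.mk.inj_iff.1 this
  exact ⟨rfl, by simpa using eq_of_heq e⟩

lemma UL.hom_ext (hp : UL p) {b a : 𝒳} (φ ψ : b ⟶ a) (h : p.map φ = p.map ψ) : φ = ψ := by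
  have : p.IsHomLift (p.map φ) ψ := by rw [h]; infer_instance
  obtain ⟨_, e⟩ := hp.eq_of_lift (p.map φ) φ ψ
  simpa using e

theorem isFibSet_iff : IsFibSet p ↔ UL p := by
  constructor
  · rintro ⟨h1, h2⟩ η U f
    obtain ⟨ξ, φ, hφ⟩ := h1.exists_lift f
    refine ⟨⟨ξ, φ⟩, hφ, ?_⟩
    rintro ⟨ξ', φ'⟩ hφ'
    dsimp only at hφ'
    have sc : p.IsStronglyCartesian f φ :=
      (isStronglyCartesian_iff p f φ).2 ⟨hφ, (sc_iff p φ).1 (h1.isStronglyCartesian φ)⟩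
    obtain ⟨χ, ⟨hχ1, hχ2⟩, -⟩ := Functor.IsStronglyCartesian.universal_property p f φ (𝟙 U) f
      (Category.id_comp f).symm φ'
    let x : p.Fiber U := ⟨ξ, IsHomLift.domain_eq p f φ⟩
    let x' : p.Fiber U := ⟨ξ', IsHomLift.domain_eq p f φ'⟩
    let m : x' ⟶ x := ⟨χ, hχ1⟩
    have hx : x' = x := (h2 U).eq_of_hom m
    have hξ : ξ' = ξ := congrArg Subtype.val hx
    subst hξ
    have hsub := (h2 U).subsingleton x' x'
    have : m = 𝟙 x' := Subsingleton.elim _ _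
    have e : χ = 𝟙 ξ' := congrArg Subtype.val this
    rw [e, Category.id_comp] at hχ2
    rw [hχ2]
  · intro hp
    refine ⟨hp.isFibGrpd, fun U => { subsingleton := ?_, eq_of_hom := ?_ }⟩
    · rintro ⟨x, hx⟩ ⟨y, rfl⟩
      refine ⟨fun a b => ?_⟩
      have ha := a.2
      have hb := b.2
      obtain ⟨_, e⟩ := hp.eq_of_lift (𝟙 _) a.1 b.1
      exact Subtype.ext (by simpa using e)
    · rintro ⟨x, hx⟩ ⟨y, rfl⟩ f
      have ha := f.2
      obtain ⟨e, -⟩ := hp.eq_of_lift (𝟙 _) f.1 (𝟙 y)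
      exact Subtype.ext e

end UniqueLift

section Comp

variable {C : Type u} [Category.{v} C] {𝒢 : Type u₂} [Category.{v₂} 𝒢]
  {ℱ : Type u₃} [Category.{v₃} ℱ] {G : 𝒢 ⥤ C} (hG : UL G) (F : ℱ ⥤ 𝒢)

include hG

/-- Over a discrete fibration `G`, cartesian for `F` and for `F ⋙ G` agree. -/
lemma UL.sc_comp_iff {b a : ℱ} (φ : b ⟶ a) : SC F φ ↔ SC (F ⋙ G) φ := by
  constructor
  · intro hφ c ψ h e
    change G.obj (F.obj c) ⟶ G.obj (F.obj b) at h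
    change h ≫ G.map (F.map φ) = G.map (F.map ψ) at e
    obtain ⟨k, ⟨hk1, hk2⟩, -⟩ := hG.sc (F.map φ) (F.map ψ) h e
    obtain ⟨χ, ⟨h1, h2⟩, h3⟩ := hφ ψ k hk2
    refine ⟨χ, ⟨?_, h2⟩, ?_⟩
    · change G.map (F.map χ) = h
      rw [h1, hk1]
    · rintro χ' ⟨h1', h2'⟩
      change G.map (F.map χ') = h at h1'
      refine h3 χ' ⟨hG.hom_ext _ _ (h1'.trans hk1.symm), h2'⟩
  · intro hφ c ψ h e
    obtain ⟨χ, ⟨h1, h2⟩, h3⟩ := hφ ψ (G.map h) (by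
      change G.map h ≫ G.map (F.map φ) = G.map (F.map ψ)
      rw [← e, G.map_comp])
    refine ⟨χ, ⟨hG.hom_ext _ _ h1, h2⟩, ?_⟩
    rintro χ' ⟨h1', h2'⟩
    refine h3 χ' ⟨?_, h2'⟩
    change G.map (F.map χ') = G.map h
    rw [h1']

omit hG in
lemma isHomLift_comp {S T : 𝒢} {f : S ⟶ T} {b a : ℱ} (φ : b ⟶ a) (h : F.IsHomLift f φ) :
    (F ⋙ G).IsHomLift (G.map f) φ := by
  obtain ⟨⟩ := h
  exact IsHomLift.map (F ⋙ G) φ

lemma UL.isHomLift_of_comp {S : 𝒢} {a : ℱ} {f : S ⟶ F.obj a} {b : ℱ} (φ : b ⟶ a)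
    (h : (F ⋙ G).IsHomLift (G.map f) φ) : F.IsHomLift f φ := by
  have h1 : G.IsHomLift (G.map f) (F.map φ) := by
    obtain ⟨h2, h3⟩ := (isHomLift_iff_exists (F ⋙ G) (G.map f) φ).1 h
    exact (isHomLift_iff_exists G (G.map f) (F.map φ)).2 ⟨h2, h3⟩
  obtain ⟨hh, e⟩ := hG.eq_of_lift (G.map f) (F.map φ) f
  exact (isHomLift_iff_exists F f φ).2 ⟨hh, e⟩

lemma UL.isFibered_iff_comp : F.IsFibered ↔ (F ⋙ G).IsFibered := by
  rw [isFibered_iff, isFibered_iff]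
  constructor
  · intro h a R f
    obtain ⟨⟨S, g⟩, hg, -⟩ := hG (F.obj a) R f
    dsimp only at hg
    obtain ⟨b, φ, h1, h2⟩ := h a S g
    refine ⟨b, φ, ?_, (hG.sc_comp_iff F φ).1 h2⟩
    have h3 := isHomLift_comp (G := G) F φ h1
    obtain ⟨rfl, e⟩ := (isHomLift_iff_exists G f g).1 hg
    simp only [eqToHom_refl, Category.id_comp] at e
    rw [e] at h3
    exact h3
  · intro h a S g
    obtain ⟨b, φ, h1, h2⟩ := h a (G.obj S) (G.map g)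
    exact ⟨b, φ, hG.isHomLift_of_comp F φ h1, (hG.sc_comp_iff F φ).2 h2⟩

lemma UL.isFibGrpd_iff_comp : IsFibGrpd F ↔ IsFibGrpd (F ⋙ G) := by
  rw [isFibGrpd_iff, isFibGrpd_iff]
  refine and_congr ⟨?_, ?_⟩ ?_
  · intro h a R f
    obtain ⟨⟨S, g⟩, hg, -⟩ := hG (F.obj a) R f
    dsimp only at hg
    obtain ⟨b, φ, h1⟩ := h a S g
    refine ⟨b, φ, ?_⟩
    have h3 := isHomLift_comp (G := G) F φ h1
    obtain ⟨rfl, e⟩ := (isHomLift_iff_exists G f g).1 hg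
    simp only [eqToHom_refl, Category.id_comp] at e
    rw [e] at h3
    exact h3
  · intro h a S g
    obtain ⟨b, φ, h1⟩ := h a (G.obj S) (G.map g)
    exact ⟨b, φ, hG.isHomLift_of_comp F φ h1⟩
  · exact forall_congr' fun b => forall_congr' fun a => forall_congr' fun φ => hG.sc_comp_iff F φ

lemma UL.ul_iff_comp : UL F ↔ UL (F ⋙ G) := by
  constructor
  · intro h a R f
    obtain ⟨⟨S, g⟩, hg, hg'⟩ := hG (F.obj a) R f
    dsimp only at hg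
    obtain ⟨⟨b, φ⟩, h1, h2⟩ := h a S g
    dsimp only at h1
    obtain ⟨rfl, e⟩ := (isHomLift_iff_exists G f g).1 hg
    simp only [eqToHom_refl, Category.id_comp] at e
    subst e
    refine ⟨⟨b, φ⟩, isHomLift_comp (G := G) F φ h1, ?_⟩
    rintro ⟨b', φ'⟩ h'
    exact h2 _ (hG.isHomLift_of_comp F φ' h')
  · intro h a S g
    obtain ⟨⟨b, φ⟩, h1, h2⟩ := h a (G.obj S) (G.map g)
    refine ⟨⟨b, φ⟩, hG.isHomLift_of_comp F φ h1, ?_⟩
    rintro ⟨b', φ'⟩ h'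
    exact h2 _ (isHomLift_comp (G := G) F φ' h')

end Comp

end K161.Basic
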