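import Groth.Agent.FibCat.K161.Basic

/-!
# Equivalences over the base: elementary criterion, calculus, representable categories
-/

set_option autoImplicit false
set_option backward.isDefEq.respectTransparency false

open CategoryTheory CategoryTheory.Limits FibCat

universe v₆ u₆ v₅ u₅ v₄ u₄ v₃ u₃ v₂ u₂ v u

namespace K161.Equiv

open K161.Basic

variable {C : Type u} [Category.{v} C]

section Criterion

variable {𝒳 : BasedCategory.{v₂, u₂} C} {𝒴 : BasedCategory.{v₃, u₃} C}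

/-- essential surjectivity over identities of the base -/
def ESI (F : 𝒳 ⥤ᵇ 𝒴) : Prop :=
  ∀ y : 𝒴.obj, ∃ (x : 𝒳.obj) (i : F.obj x ≅ y), 𝒴.p.IsHomLift (𝟙 (𝒴.p.obj y)) i.hom

lemma p_map_map (F : 𝒳 ⥤ᵇ 𝒴) {a b : 𝒳.obj} (f : a ⟶ b) :
    𝒴.p.map (F.map f) = eqToHom (F.w_obj a) ≫ 𝒳.p.map f ≫ eqToHom (F.w_obj b).symm := by
  have := Functor.congr_hom F.w f
  simpa using this

theorem isEquivOver_of (F : 𝒳 ⥤ᵇ 𝒴) (h1 : F.toFunctor.Full) (h2 : F.toFunctor.Faithful)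
    (h3 : ESI F) : IsEquivOver F := by
  choose g i hi using h3
  have hw : ∀ y, 𝒳.p.obj (g y) = 𝒴.p.obj y := fun y => by
    rw [← F.w_obj]; exact IsHomLift.domain_eq 𝒴.p (𝟙 _) (i y).hom
  have hlift : ∀ {y y' : 𝒴.obj} (f : y ⟶ y'),
      𝒳.p.IsHomLift (𝒴.p.map f) (F.toFunctor.preimage ((i y).hom ≫ f ≫ (i y').inv)) := by
    intro y y' f
    rw [← BasedFunctor.isHomLift_iff F]
    have e : F.map (F.toFunctor.preimage ((i y).hom ≫ f ≫ (i y').inv)) =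
      (i y).hom ≫ f ≫ (i y').inv := F.toFunctor.map_preimage _
    rw [e]
    have := hi y
    have := hi y'
    infer_instance
  let G : 𝒴 ⥤ᵇ 𝒳 :=
    { obj := g
      map := fun {y y'} f => F.toFunctor.preimage ((i y).hom ≫ f ≫ (i y').inv)
      map_id := fun y => by
        apply F.toFunctor.map_injective
        simp
      map_comp := fun f f' => by
        apply F.toFunctor.map_injective
        simp
      w := by
        refine Functor.ext hw (fun y y' f => ?_)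
        have := hlift f
        exact IsHomLift.fac' 𝒳.p (𝒴.p.map f) _ }
  have nat1 : ∀ {a b : 𝒳.obj} (f : a ⟶ b), (F.toFunctor ⋙ G.toFunctor).map f ≫
      F.toFunctor.preimage (i (F.obj b)).hom = F.toFunctor.preimage (i (F.obj a)).hom ≫ f := by
    intro a b f
    apply F.toFunctor.map_injective
    change F.map (F.toFunctor.preimage ((i (F.obj a)).hom ≫ F.map f ≫ (i (F.obj b)).inv) ≫
      F.toFunctor.preimage (i (F.obj b)).hom) = F.map (F.toFunctor.preimage (i (F.obj a)).hom ≫ f)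
    simp
  have nat2 : ∀ {a b : 𝒴.obj} (f : a ⟶ b), (G.toFunctor ⋙ F.toFunctor).map f ≫
      (i b).hom = (i a).hom ≫ f := by
    intro a b f
    change F.map (F.toFunctor.preimage ((i a).hom ≫ f ≫ (i b).inv)) ≫ (i b).hom = (i a).hom ≫ f
    simp
  refine ⟨G, ⟨?_⟩, ⟨?_⟩⟩
  · refine BasedNatIso.mkNatIso (NatIso.ofComponents (fun x => F.toFunctor.preimageIso (i (F.obj x)))
      (fun f => nat1 f)) ?_
    intro a
    rw [← BasedFunctor.isHomLift_iff F]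
    change 𝒴.p.IsHomLift _ (F.map (F.toFunctor.preimage (i (F.obj a)).hom))
    rw [F.toFunctor.map_preimage]
    have := hi (F.obj a)
    rw [F.w_obj a] at this
    exact this
  · exact BasedNatIso.mkNatIso (NatIso.ofComponents (fun y => i y) (fun f => nat2 f)) hi

theorem full_of {F : 𝒳 ⥤ᵇ 𝒴} (h : IsEquivOver F) : F.toFunctor.Full := by
  obtain ⟨G, ⟨e1⟩, ⟨e2⟩⟩ := h
  let E : 𝒳.obj ≌ 𝒴.obj := CategoryTheory.Equivalence.mk F.toFunctor G.toFunctor
    ((BasedNatTrans.forgetful _ _).mapIso e1).symm ((BasedNatTrans.forgetful _ _).mapIso e2)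
  exact (inferInstance : E.functor.Full)

theorem faithful_of {F : 𝒳 ⥤ᵇ 𝒴} (h : IsEquivOver F) : F.toFunctor.Faithful := by
  obtain ⟨G, ⟨e1⟩, ⟨e2⟩⟩ := h
  let E : 𝒳.obj ≌ 𝒴.obj := CategoryTheory.Equivalence.mk F.toFunctor G.toFunctor
    ((BasedNatTrans.forgetful _ _).mapIso e1).symm ((BasedNatTrans.forgetful _ _).mapIso e2)
  exact (inferInstance : E.functor.Faithful)

theorem esi_of {F : 𝒳 ⥤ᵇ 𝒴} (h : IsEquivOver F) : ESI F := by
  obtain ⟨G, ⟨e1⟩, ⟨e2⟩⟩ := h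
  intro y
  exact ⟨G.obj y, ((BasedNatTrans.forgetful _ _).mapIso e2).app y, e2.hom.isHomLift' y⟩

theorem isEquivOver_iff (F : 𝒳 ⥤ᵇ 𝒴) :
    IsEquivOver F ↔ F.toFunctor.Full ∧ F.toFunctor.Faithful ∧ ESI F :=
  ⟨fun h => ⟨full_of h, faithful_of h, esi_of h⟩, fun h => isEquivOver_of F h.1 h.2.1 h.2.2⟩

end Criterion

section Calculus

variable {𝒳 : BasedCategory.{v₂, u₂} C} {𝒴 : BasedCategory.{v₃, u₃} C} {𝒵 : BasedCategory.{v₄, u₄} C}

lemma isHomLift_map {F : 𝒳 ⥤ᵇ 𝒴} {R S : C} {f : R ⟶ S} {a b : 𝒳.obj} {φ : a ⟶ b}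
    (h : 𝒳.p.IsHomLift f φ) : 𝒴.p.IsHomLift f (F.map φ) :=
  (BasedFunctor.isHomLift_iff F f φ).2 h

lemma isHomLift_of_map {F : 𝒳 ⥤ᵇ 𝒴} {R S : C} {f : R ⟶ S} {a b : 𝒳.obj} {φ : a ⟶ b}
    (h : 𝒴.p.IsHomLift f (F.map φ)) : 𝒳.p.IsHomLift f φ :=
  (BasedFunctor.isHomLift_iff F f φ).1 h

theorem isEquivOver_id : IsEquivOver (BasedFunctor.id 𝒳) :=
  ⟨BasedFunctor.id 𝒳, ⟨Iso.refl _⟩, ⟨Iso.refl _⟩⟩

theorem isEquivOver_comp {F : 𝒳 ⥤ᵇ 𝒴} {G : 𝒴 ⥤ᵇ 𝒵} (hF : IsEquivOver F) (hG : IsEquivOver G) :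
    IsEquivOver (BasedFunctor.comp F G) := by
  have := full_of hF
  have := full_of hG
  have := faithful_of hF
  have := faithful_of hG
  refine isEquivOver_of _ (inferInstanceAs (F.toFunctor ⋙ G.toFunctor).Full)
    (inferInstanceAs (F.toFunctor ⋙ G.toFunctor).Faithful) ?_
  intro z
  obtain ⟨y, j, hj⟩ := esi_of hG z
  obtain ⟨x, i, hi⟩ := esi_of hF y
  refine ⟨x, G.toFunctor.mapIso i ≪≫ j, ?_⟩
  have h1 : 𝒴.p.obj y = 𝒵.p.obj z := by
    rw [← G.w_obj]; exact IsHomLift.domain_eq 𝒵.p (𝟙 _) j.hom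
  rw [h1] at hi
  have h2 : 𝒵.p.IsHomLift (𝟙 (𝒵.p.obj z)) (G.map i.hom) := isHomLift_map hi
  change 𝒵.p.IsHomLift _ (G.map i.hom ≫ j.hom)
  infer_instance

/-- Left cancellation: `G` full and faithful and `F ⋙ G` an equivalence force `F` to be one. -/
theorem isEquivOver_of_comp_right {F : 𝒳 ⥤ᵇ 𝒴} {G : 𝒴 ⥤ᵇ 𝒵} (h1 : G.toFunctor.Full)
    (h2 : G.toFunctor.Faithful) (h : IsEquivOver (BasedFunctor.comp F G)) : IsEquivOver F := by
  have h3 : (F.toFunctor ⋙ G.toFunctor).Full := full_of h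
  have h4 : (F.toFunctor ⋙ G.toFunctor).Faithful := faithful_of h
  refine isEquivOver_of _ (Functor.Full.of_comp_faithful F.toFunctor G.toFunctor)
    (Functor.Faithful.of_comp F.toFunctor G.toFunctor) ?_
  intro y
  obtain ⟨x, i, hi⟩ := esi_of h (G.obj y)
  refine ⟨x, G.toFunctor.preimageIso i, ?_⟩
  rw [← BasedFunctor.isHomLift_iff G]
  change 𝒵.p.IsHomLift _ (G.map (G.toFunctor.preimage i.hom))
  rw [G.toFunctor.map_preimage]
  rw [G.w_obj] at hi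
  exact hi

theorem exists_inverse {F : 𝒳 ⥤ᵇ 𝒴} (hF : IsEquivOver F) :
    ∃ G : 𝒴 ⥤ᵇ 𝒳, IsEquivOver G ∧ Nonempty (BasedFunctor.comp F G ≅ BasedFunctor.id 𝒳) ∧
      Nonempty (BasedFunctor.comp G F ≅ BasedFunctor.id 𝒴) := by
  obtain ⟨G, h1, h2⟩ := hF
  exact ⟨G, ⟨F, h2, h1⟩, h1, h2⟩

/-- Invariance under 2-isomorphism. -/
theorem isEquivOver_of_iso {F G : 𝒳 ⥤ᵇ 𝒴} (e : F ≅ G) (hF : IsEquivOver F) : IsEquivOver G := by
  have h1 := full_of hF
  have h2 := faithful_of hF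
  have e' : F.toFunctor ≅ G.toFunctor := (BasedNatTrans.forgetful _ _).mapIso e
  refine isEquivOver_of _ (Functor.Full.of_iso e') (Functor.Faithful.of_iso e') ?_
  intro y
  obtain ⟨x, i, hi⟩ := esi_of hF y
  refine ⟨x, (((BasedNatTrans.forgetful _ _).mapIso e).app x).symm ≪≫ i, ?_⟩
  have h3 : 𝒳.p.obj x = 𝒴.p.obj y := by
    rw [← F.w_obj]; exact IsHomLift.domain_eq 𝒴.p (𝟙 _) i.hom
  have h4 : 𝒴.p.IsHomLift (𝟙 (𝒴.p.obj y)) (e.inv.toNatTrans.app x) := e.inv.isHomLift h3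
  change 𝒴.p.IsHomLift _ (e.inv.toNatTrans.app x ≫ i.hom)
  infer_instance

/-- Reflection of strongly cartesian morphisms by full faithful functors. -/
theorem sc_of_map {F : 𝒳 ⥤ᵇ 𝒴} (h1 : F.toFunctor.Full) (h2 : F.toFunctor.Faithful)
    {R S : C} (f : R ⟶ S) {b a : 𝒳.obj} (φ : b ⟶ a) (h : 𝒴.p.IsStronglyCartesian f (F.map φ)) :
    𝒳.p.IsStronglyCartesian f φ where
  toIsHomLift := isHomLift_of_map (F := F) inferInstance
  universal_property' := by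
    intro c g ψ hψ
    have : 𝒴.p.IsHomLift (g ≫ f) (F.map ψ) := isHomLift_map hψ
    obtain ⟨χ, ⟨h3, h4⟩, h5⟩ := Functor.IsStronglyCartesian.universal_property 𝒴.p f (F.map φ) (a' := F.obj c)
      (eqToHom (F.w_obj c) ≫ g) (eqToHom (F.w_obj c) ≫ g ≫ f) (by simp) (F.map ψ)
    have e1 : F.map (F.toFunctor.preimage χ) = χ := F.toFunctor.map_preimage χ
    have h3' : 𝒴.p.IsHomLift g χ := by simpa using h3
    refine ⟨F.toFunctor.preimage χ, ⟨isHomLift_of_map (F := F) (by rw [e1]; exact h3'), ?_⟩, ?_⟩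
    · apply F.toFunctor.map_injective
      rw [Functor.map_comp, F.toFunctor.map_preimage]
      exact h4
    · rintro χ' ⟨h6, h7⟩
      apply F.toFunctor.map_injective
      rw [F.toFunctor.map_preimage]
      have h8 : 𝒴.p.IsHomLift g (F.map χ') := isHomLift_map h6
      refine h5 _ ⟨by infer_instance, ?_⟩
      change F.toFunctor.map χ' ≫ F.toFunctor.map φ = F.toFunctor.map ψ
      rw [← Functor.map_comp, h7]

/-- Equivalences preserve strongly cartesian morphisms. -/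
theorem sc_map {F : 𝒳 ⥤ᵇ 𝒴} (hF : IsEquivOver F)
    {R S : C} (f : R ⟶ S) {b a : 𝒳.obj} (φ : b ⟶ a) (h : 𝒳.p.IsStronglyCartesian f φ) :
    𝒴.p.IsStronglyCartesian f (F.map φ) where
  toIsHomLift := isHomLift_map inferInstance
  universal_property' := by
    have := full_of hF
    have := faithful_of hF
    intro c g ψ hψ
    obtain ⟨x, i, hi⟩ := esi_of hF c
    let ψ' := F.toFunctor.preimage (i.hom ≫ ψ)
    have e1 : F.map ψ' = i.hom ≫ ψ := F.toFunctor.map_preimage _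
    have h1 : 𝒳.p.IsHomLift (g ≫ f) ψ' := isHomLift_of_map (F := F) (by rw [e1]; infer_instance)
    obtain ⟨χ, ⟨h3, h4⟩, h5⟩ := Functor.IsStronglyCartesian.universal_property 𝒳.p f φ g (g ≫ f) rfl ψ'
    have h3' : 𝒴.p.IsHomLift g (F.map χ) := isHomLift_map h3
    refine ⟨i.inv ≫ F.map χ, ⟨by infer_instance, ?_⟩, ?_⟩
    · rw [Category.assoc, Iso.inv_comp_eq, ← e1, ← h4]
      exact (F.toFunctor.map_comp _ _).symm
    · rintro χ' ⟨h6, h7⟩
      have e2 : F.map (F.toFunctor.preimage (i.hom ≫ χ')) = i.hom ≫ χ' := F.toFunctor.map_preimage _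
      have h8 := h5 (F.toFunctor.preimage (i.hom ≫ χ')) ⟨isHomLift_of_map (F := F) (by
        rw [e2]; infer_instance), by
        apply F.toFunctor.map_injective
        rw [Functor.map_comp, F.toFunctor.map_preimage, Category.assoc, h7, e1]⟩
      rw [← h8, e2]
      simp

theorem isFibGrpd_of_isEquivOver {F : 𝒳 ⥤ᵇ 𝒴} (hF : IsEquivOver F) (h : IsFibGrpd 𝒴.p) :
    IsFibGrpd 𝒳.p where
  exists_lift := by
    have := full_of hF
    have := faithful_of hF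
    intro x V f
    obtain ⟨y, φ, hφ⟩ := h.exists_lift (eqToHom rfl ≫ f ≫ eqToHom (F.w_obj x).symm)
    have hφ' : 𝒴.p.IsHomLift f φ := by
      simpa using hφ
    obtain ⟨x', i, hi⟩ := esi_of hF y
    have h1 : 𝒴.p.obj y = V := IsHomLift.domain_eq 𝒴.p f φ
    rw [h1] at hi
    refine ⟨x', F.toFunctor.preimage (i.hom ≫ φ), isHomLift_of_map (F := F) ?_⟩
    have e2 : F.map (F.toFunctor.preimage (i.hom ≫ φ)) = i.hom ≫ φ := F.toFunctor.map_preimage _
    rw [e2]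
    infer_instance
  isStronglyCartesian := by
    intro y x φ
    refine sc_of_map (full_of hF) (faithful_of hF) _ _ ?_
    rw [isStronglyCartesian_iff, ← sc_iff]
    exact ⟨isHomLift_map inferInstance, h.isStronglyCartesian _⟩

theorem isFibGrpd_iff_of_isEquivOver {F : 𝒳 ⥤ᵇ 𝒴} (hF : IsEquivOver F) :
    IsFibGrpd 𝒳.p ↔ IsFibGrpd 𝒴.p := by
  obtain ⟨G, hG, -⟩ := exists_inverse hF
  exact ⟨isFibGrpd_of_isEquivOver hG, isFibGrpd_of_isEquivOver hF⟩

theorem thin_of_faithful {F : 𝒳 ⥤ᵇ 𝒴} (hF : F.toFunctor.Faithful)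
    (h : ∀ U, Quiver.IsThin (𝒴.p.Fiber U)) (U : C) : Quiver.IsThin (𝒳.p.Fiber U) := by
  rintro ⟨x, hx⟩ ⟨x', hx'⟩
  refine ⟨fun a b => Subtype.ext ?_⟩
  apply F.toFunctor.map_injective
  let y : 𝒴.p.Fiber U := ⟨F.obj x, (F.w_obj x).trans hx⟩
  let y' : 𝒴.p.Fiber U := ⟨F.obj x', (F.w_obj x').trans hx'⟩
  let a' : y ⟶ y' := ⟨F.map a.1, isHomLift_map a.2⟩
  let b' : y ⟶ y' := ⟨F.map b.1, isHomLift_map b.2⟩
  have := h U y y'
  exact congrArg Subtype.val (Subsingleton.elim a' b')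

end Calculus

end K161.Equiv
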