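import Groth.Agent.FibCat.K161.Fp2
import Groth.Prelude.Def_W4stkcategoriessitesFib
import Mathlib.CategoryTheory.Adjunction.Basic

/-!
# Factorisation of a 1-morphism of fibred categories through a fibration
-/

set_option autoImplicit false
set_option backward.isDefEq.respectTransparency false

open CategoryTheory CategoryTheory.Limits FibCat

universe v₅ u₅ v₄ u₄ v₃ u₃ v₂ u₂ v u

namespace K161.Factor

open K161.Basic K161.Equiv K161.Fiberwise K161.Fp K161.Fp2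

variable {C : Type u} [Category.{v} C] {𝒳 : BasedCategory.{v₂, u₂} C} {𝒴 : BasedCategory.{v₃, u₃} C}

/-- Objects `(y, x, m : y ⟶ F x)` with `m` vertical. -/
structure FacObj (F : 𝒳 ⥤ᵇ 𝒴) where
  y : 𝒴.obj
  x : 𝒳.obj
  m : y ⟶ F.obj x
  h : 𝒴.p.IsHomLift (𝟙 (𝒳.p.obj x)) m

attribute [instance] FacObj.h

variable {F : 𝒳 ⥤ᵇ 𝒴}

lemma FacObj.eq (a : FacObj F) : 𝒴.p.obj a.y = 𝒳.p.obj a.x := IsHomLift.domain_eq 𝒴.p (𝟙 (𝒳.p.obj a.x)) a.m

/-- Morphisms. -/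
@[ext]
structure FacHom (a b : FacObj F) where
  f₁ : a.y ⟶ b.y
  f₂ : a.x ⟶ b.x
  w : f₁ ≫ b.m = a.m ≫ F.map f₂

instance : Category (FacObj F) where
  Hom := FacHom
  id a := ⟨𝟙 _, 𝟙 _, by rw [F.map_id, Category.id_comp, Category.comp_id]⟩
  comp f g := ⟨f.f₁ ≫ g.f₁, f.f₂ ≫ g.f₂, by
    rw [Category.assoc, g.w, ← Category.assoc, f.w, Category.assoc, F.map_comp]⟩
  id_comp f := FacHom.ext (Category.id_comp _) (Category.id_comp _)
  comp_id f := FacHom.ext (Category.comp_id _) (Category.comp_id _)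
  assoc f g h := FacHom.ext (Category.assoc _ _ _) (Category.assoc _ _ _)

lemma hom_ext {a b : FacObj F} {f g : a ⟶ b} (h1 : f.f₁ = g.f₁) (h2 : f.f₂ = g.f₂) : f = g :=
  FacHom.ext h1 h2

variable (F) in
/-- first projection -/
def pr₁ : FacObj F ⥤ 𝒴.obj where
  obj a := a.y
  map f := f.f₁

variable (F) in
/-- second projection -/
def pr₂ : FacObj F ⥤ 𝒳.obj where
  obj a := a.x
  map f := f.f₂

lemma lift_snd {a b : FacObj F} (f : a ⟶ b) : 𝒳.p.IsHomLift (𝒴.p.map f.f₁) f.f₂ := by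
  apply isHomLift_of_map (F := F)
  have e1 := IsHomLift.fac' 𝒴.p (𝟙 (𝒳.p.obj a.x)) a.m
  have e2 := IsHomLift.fac' 𝒴.p (𝟙 (𝒳.p.obj b.x)) b.m
  have e3 := congrArg 𝒴.p.map f.w
  rw [𝒴.p.map_comp, 𝒴.p.map_comp, e1, e2] at e3
  refine IsHomLift.of_fac' 𝒴.p _ _ ((F.w_obj a.x).trans a.eq.symm) ((F.w_obj b.x).trans b.eq.symm) ?_
  rw [← cancel_epi (eqToHom a.eq ≫ 𝟙 (𝒳.p.obj a.x) ≫ eqToHom (F.w_obj a.x).symm), ← e3]
  simp

variable (F) in
/-- the intermediate category -/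
abbrev fac : BasedCategory.{max v₂ v₃, max u₂ u₃ v₃} C where
  obj := FacObj F
  p := pr₁ F ⋙ 𝒴.p

variable (F) in
/-- `v` -/
def facV : fac F ⥤ᵇ 𝒴 where
  toFunctor := pr₁ F
  w := rfl

variable (F) in
/-- `w` -/
def facW : fac F ⥤ᵇ 𝒳 where
  toFunctor := pr₂ F
  w := Functor.ext (fun a => a.eq.symm) (fun a b f => by
    have := lift_snd f
    exact IsHomLift.fac' 𝒳.p (𝒴.p.map f.f₁) f.f₂)

variable (F) in
/-- `u` -/
def facU : 𝒳 ⥤ᵇ fac F where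
  toFunctor :=
    { obj := fun x => ⟨F.obj x, x, 𝟙 _, inferInstance⟩
      map := fun f => ⟨F.map f, f, by rw [Category.comp_id, Category.id_comp]⟩
      map_id := fun x => hom_ext (F.map_id x) rfl
      map_comp := fun f g => hom_ext (F.map_comp f g) rfl }
  w := F.w

theorem facU_comp : BasedFunctor.comp (facU F) (facV F) = F := rfl

instance : (facU F).toFunctor.Full where
  map_surjective := by
    intro x x' f
    refine ⟨f.f₂, hom_ext ?_ rfl⟩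
    have := f.w
    change f.f₁ ≫ 𝟙 _ = 𝟙 _ ≫ F.map f.f₂ at this
    rw [Category.comp_id, Category.id_comp] at this
    exact this.symm

instance : (facU F).toFunctor.Faithful where
  map_injective := by
    intro x x' f g h
    exact congrArg FacHom.f₂ h

/-- the adjunction -/
def adj : (facW F).toFunctor ⊣ (facU F).toFunctor :=
  Adjunction.mkOfHomEquiv
    { homEquiv := fun a x =>
        { toFun := fun g => ⟨a.m ≫ F.map g, g, by
            change (a.m ≫ F.map g) ≫ 𝟙 _ = _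
            rw [Category.comp_id]⟩
          invFun := fun f => f.f₂
          left_inv := fun g => rfl
          right_inv := fun f => hom_ext (by
            have := f.w
            change f.f₁ ≫ 𝟙 _ = a.m ≫ F.map f.f₂ at this
            rw [Category.comp_id] at this
            exact this.symm) rfl }
      homEquiv_naturality_left_symm := fun f g => rfl
      homEquiv_naturality_right := fun {a x x'} f g => hom_ext (by
        change a.m ≫ F.map (f ≫ g) = (a.m ≫ F.map f) ≫ F.map g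
        rw [F.map_comp, Category.assoc]) rfl }

lemma isHomLift_fac_iff {R S : C} (f : R ⟶ S) {a b : FacObj F} (φ : a ⟶ b) :
    (fac F).p.IsHomLift f φ ↔ 𝒴.p.IsHomLift f φ.f₁ :=
  (BasedFunctor.isHomLift_iff (facV F) f φ).symm

lemma isHomLift_fac_iff' {R S : C} (f : R ⟶ S) {a b : FacObj F} (φ : a ⟶ b) :
    (fac F).p.IsHomLift f φ ↔ 𝒳.p.IsHomLift f φ.f₂ :=
  (BasedFunctor.isHomLift_iff (facW F) f φ).symm

section

variable (hF : PreservesStronglyCartesian F)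

include hF

theorem sc_fac_of {R S : C} (f : R ⟶ S) {a b : FacObj F} (φ : a ⟶ b)
    (h1 : 𝒴.p.IsStronglyCartesian f φ.f₁) (h2 : 𝒳.p.IsStronglyCartesian f φ.f₂) :
    (fac F).p.IsStronglyCartesian f φ where
  toIsHomLift := (isHomLift_fac_iff f φ).2 inferInstance
  universal_property' := by
    intro c g ψ hψ
    have l1 := (isHomLift_fac_iff _ _).1 hψ
    have l2 := (isHomLift_fac_iff' _ _).1 hψ
    have hc : (fac F).p.obj c = _ := IsHomLift.domain_eq (fac F).p (g ≫ f) ψ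
    have hc2 : 𝒳.p.obj c.x = (fac F).p.obj c := c.eq.symm
    have ha : 𝒳.p.obj a.x = R := IsHomLift.domain_eq 𝒳.p f φ.f₂
    obtain ⟨d₁, ⟨h3, h4⟩, h5⟩ := Functor.IsStronglyCartesian.universal_property 𝒴.p f φ.f₁ g
      (g ≫ f) rfl ψ.f₁
    obtain ⟨d₂, ⟨h6, h7⟩, h8⟩ := Functor.IsStronglyCartesian.universal_property 𝒳.p f φ.f₂ g
      (g ≫ f) rfl ψ.f₂
    have s := hF f φ.f₂ h2
    have l3 : 𝒴.p.IsHomLift g (d₁ ≫ a.m) := by
      have := a.h
      rw [ha] at this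
      infer_instance
    have l4 : 𝒴.p.IsHomLift g (c.m ≫ F.map d₂) := by
      have := c.h
      rw [hc2] at this
      have l5 : 𝒴.p.IsHomLift g (F.map d₂) := isHomLift_map h6
      infer_instance
    refine ⟨⟨d₁, d₂, ?_⟩, ⟨(isHomLift_fac_iff _ _).2 h3, hom_ext h4 h7⟩, ?_⟩
    · apply Functor.IsStronglyCartesian.ext 𝒴.p f (F.map φ.f₂) g
      rw [Category.assoc, Category.assoc, ← φ.w, ← F.map_comp, h7, ← ψ.w, ← Category.assoc, h4]
    · rintro χ ⟨h9, h10⟩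
      exact hom_ext (h5 _ ⟨(isHomLift_fac_iff _ _).1 h9, congrArg FacHom.f₁ h10⟩)
        (h8 _ ⟨(isHomLift_fac_iff' _ _).1 h9, congrArg FacHom.f₂ h10⟩)

/-- Existence of good lifts along a prescribed morphism of `𝒴`. -/
theorem exists_lift [𝒳.p.IsFibered] (a : FacObj F) {R S : C} (f : R ⟶ S) {y' : 𝒴.obj} (g : y' ⟶ a.y)
    [hg : 𝒴.p.IsHomLift f g] : ∃ (x' : 𝒳.obj) (b : x' ⟶ a.x) (m : y' ⟶ F.obj x')
      (h : 𝒴.p.IsHomLift (𝟙 (𝒳.p.obj x')) m), 𝒳.p.IsStronglyCartesian f b ∧ g ≫ a.m = m ≫ F.map b := by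
  have ha : 𝒴.p.obj a.y = S := IsHomLift.codomain_eq 𝒴.p f g
  have ha' : 𝒳.p.obj a.x = S := a.eq.symm.trans ha
  obtain ⟨x', b, hb⟩ := IsPreFibered.exists_isCartesian 𝒳.p ha' f
  have hb' : 𝒳.p.IsStronglyCartesian f b := inferInstance
  have hx' : 𝒳.p.obj x' = R := IsHomLift.domain_eq 𝒳.p f b
  have s := hF f b hb'
  have l1 : 𝒴.p.IsHomLift f (g ≫ a.m) := by
    have := a.h
    rw [ha'] at this
    infer_instance
  obtain ⟨m, ⟨h1, h2⟩, -⟩ := Functor.IsStronglyCartesian.universal_property 𝒴.p f (F.map b) (𝟙 R)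
      f (Category.id_comp f).symm (g ≫ a.m)
  exact ⟨x', b, m, by rw [hx']; exact h1, hb', h2.symm⟩

theorem exists_sc_lift [𝒳.p.IsFibered] [𝒴.p.IsFibered] (a : FacObj F) {R S : C} (f : R ⟶ S)
    (ha : 𝒴.p.obj a.y = S) : ∃ (b : FacObj F) (φ : b ⟶ a), 𝒴.p.IsStronglyCartesian f φ.f₁ ∧
      𝒳.p.IsStronglyCartesian f φ.f₂ := by
  obtain ⟨y', g, hg⟩ := IsPreFibered.exists_isCartesian 𝒴.p ha f
  obtain ⟨x', b, m, h, h1, h2⟩ := exists_lift hF a f g
  exact ⟨⟨y', x', m, h⟩, ⟨g, b, h2⟩, inferInstance, h1⟩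

theorem isFibered_fac [𝒳.p.IsFibered] [𝒴.p.IsFibered] : (fac F).p.IsFibered := by
  apply Functor.IsFibered.of_exists_isStronglyCartesian
  intro a R f
  obtain ⟨b, φ, h1, h2⟩ := exists_sc_lift hF a f rfl
  exact ⟨b, φ, sc_fac_of hF f φ h1 h2⟩

theorem sc_fac_iff [𝒳.p.IsFibered] [𝒴.p.IsFibered] {R S : C} (f : R ⟶ S) {a b : FacObj F} (φ : a ⟶ b) :
    (fac F).p.IsStronglyCartesian f φ ↔
      𝒴.p.IsStronglyCartesian f φ.f₁ ∧ 𝒳.p.IsStronglyCartesian f φ.f₂ := by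
  refine ⟨fun h => ?_, fun h => sc_fac_of hF f φ h.1 h.2⟩
  obtain ⟨c, ψ, h1, h2⟩ := exists_sc_lift hF b f (IsHomLift.codomain_eq (fac F).p f φ)
  have h3 := sc_fac_of hF f ψ h1 h2
  let θ : a ≅ c := Functor.IsCartesian.domainUniqueUpToIso (fac F).p f ψ φ
  have hθ : (fac F).p.IsHomLift (𝟙 R) θ.hom := inferInstance
  have h4 : θ.hom ≫ ψ = φ := Functor.IsCartesian.fac (fac F).p f ψ φ
  let θ₁ : a.y ≅ c.y := (pr₁ F).mapIso θ
  let θ₂ : a.x ≅ c.x := (pr₂ F).mapIso θ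
  have l1 : 𝒴.p.IsHomLift (𝟙 R) θ₁.hom := (isHomLift_fac_iff _ _).1 hθ
  have l2 : 𝒳.p.IsHomLift (𝟙 R) θ₂.hom := (isHomLift_fac_iff' _ _).1 hθ
  have e1 : θ₁.hom ≫ ψ.f₁ = φ.f₁ := congrArg FacHom.f₁ h4
  have e2 : θ₂.hom ≫ ψ.f₂ = φ.f₂ := congrArg FacHom.f₂ h4
  constructor
  · have : 𝒴.p.IsStronglyCartesian (𝟙 R ≫ f) (θ₁.hom ≫ ψ.f₁) := inferInstance
    rwa [e1, Category.id_comp] at this
  · have : 𝒳.p.IsStronglyCartesian (𝟙 R ≫ f) (θ₂.hom ≫ ψ.f₂) := inferInstance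
    rwa [e2, Category.id_comp] at this

theorem isFibered_facV [𝒳.p.IsFibered] : (facV F).toFunctor.IsFibered := by
  rw [isFibered_iff]
  intro a y' g
  change y' ⟶ a.y at g
  obtain ⟨x', b, m, h, h1, h2⟩ := exists_lift hF a (𝒴.p.map g) g
  let a' : FacObj F := ⟨y', x', m, h⟩
  let φ : a' ⟶ a := ⟨g, b, h2⟩
  have ha' : 𝒴.p.obj y' = 𝒳.p.obj x' := a'.eq
  refine ⟨a', φ, IsHomLift.map (pr₁ F) φ, ?_⟩
  intro a'' ψ k e
  change a''.y ⟶ y' at k
  change k ≫ g = ψ.f₁ at e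
  have l0 := lift_snd ψ
  obtain ⟨d₂, ⟨h6, h7⟩, h8⟩ := Functor.IsStronglyCartesian.universal_property 𝒳.p (𝒴.p.map g) b
    (𝒴.p.map k) (𝒴.p.map ψ.f₁) (by rw [← e, 𝒴.p.map_comp]) ψ.f₂
  have s := hF _ b h1
  have l3 : 𝒴.p.IsHomLift (𝒴.p.map k) (k ≫ m) := by
    rw [← ha'] at h
    infer_instance
  have l4 : 𝒴.p.IsHomLift (𝒴.p.map k) (a''.m ≫ F.map d₂) := by
    have := a''.h
    rw [← a''.eq] at this
    have l5 : 𝒴.p.IsHomLift (𝒴.p.map k) (F.map d₂) := isHomLift_map h6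
    infer_instance
  refine ⟨⟨k, d₂, ?_⟩, ⟨rfl, hom_ext e h7⟩, ?_⟩
  · change k ≫ m = a''.m ≫ F.map d₂
    apply Functor.IsStronglyCartesian.ext 𝒴.p (𝒴.p.map g) (F.map b) (𝒴.p.map k)
    rw [Category.assoc, Category.assoc, ← h2, ← F.map_comp, h7, ← ψ.w, ← Category.assoc, e]
  · rintro χ ⟨h9, h10⟩
    have h9' : χ.f₁ = k := h9
    refine hom_ext h9' (h8 _ ⟨?_, congrArg FacHom.f₂ h10⟩)
    rw [← h9']
    exact lift_snd χ

end

end K161.Factor
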