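import Groth.Agent.FibCat.K161.Sections
import Mathlib.CategoryTheory.Adjunction.Comma
import Mathlib.CategoryTheory.Adjunction.Whiskering

/-!
# Comma categories of a fibred category with contractible fibres
-/

set_option autoImplicit false
set_option backward.isDefEq.respectTransparency false

open CategoryTheory CategoryTheory.Limits FibCat W4c2modmodulilect

universe w v₅ u₅ v₄ u₄ v₃ u₃ v₂ u₂ v₁ u₁ v u

namespace K161.FibNerve

/-- A left adjoint transfers contractibility of the nerve to the target. -/
theorem nerve_of_adj {A : Type u₁} [Category.{v₁} A] {B : Type u₂} [Category.{v₂} B] (L : A ⥤ B)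
    [L.IsLeftAdjoint] (h : HasContractibleNerve.{w, w} A) : HasContractibleNerve.{w, w} B := by
  refine ⟨⟨L.obj h.1.some⟩, fun G _ => ?_⟩
  let adj := Adjunction.ofIsLeftAdjoint L
  let adj' := adj.whiskerLeft G
  have h1 : ∀ X, IsIso (adj'.unit.app X) := fun X => NatIso.isIso_of_isIso_app _
  have h2 : ∀ X, IsIso (adj'.counit.app X) := fun X => NatIso.isIso_of_isIso_app _
  have h3 : ((Functor.whiskeringLeft A B G).obj L).IsEquivalence :=
    adj'.toEquivalence.isEquivalence_inverse
  have h4 : (Functor.const B ⋙ (Functor.whiskeringLeft A B G).obj L : G ⥤ A ⥤ G).IsEquivalence := h.2 G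
  exact Functor.isEquivalence_of_comp_right (Functor.const B) ((Functor.whiskeringLeft A B G).obj L)

section Fibre

variable {C : Type u₁} [Category.{v₁} C] {D : Type u₂} [Category.{v₂} D] (f : C ⥤ D)

/-- inclusion of the fibre in the comma category -/
def fibToComma (Y : D) : f.Fiber Y ⥤ StructuredArrow Y f where
  obj x := StructuredArrow.mk (Y := x.1) (eqToHom x.2.symm)
  map {x x'} m := StructuredArrow.homMk m.1 (by
    have := m.2
    change eqToHom x.2.symm ≫ f.map m.1 = eqToHom x'.2.symm
    rw [IsHomLift.fac' f (𝟙 Y) m.1]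
    simp)
  map_id x := rfl
  map_comp a b := rfl

theorem isLeftAdjoint_fibToComma [f.IsFibered] (Y : D) : (fibToComma f Y).IsLeftAdjoint := by
  have : ∀ A, HasTerminal (CostructuredArrow (fibToComma f Y) A) := by
    intro A
    obtain ⟨a, c, hc⟩ := IsPreFibered.exists_isCartesian f rfl A.hom
    have ha : f.obj a = Y := IsHomLift.domain_eq f A.hom c
    let a' : f.Fiber Y := ⟨a, ha⟩
    let t : (fibToComma f Y).obj a' ⟶ A := StructuredArrow.homMk c (by
      change eqToHom ha.symm ≫ f.map c = A.hom
      rw [IsHomLift.fac' f A.hom c]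
      simp)
    let T : CostructuredArrow (fibToComma f Y) A := CostructuredArrow.mk t
    have key : ∀ (x : f.Fiber Y) (s : (fibToComma f Y).obj x ⟶ A), ∃! n : x ⟶ a',
        (fibToComma f Y).map n ≫ t = s := by
      intro x s
      have l1 : f.IsHomLift A.hom s.right := by
        have e1 := StructuredArrow.w s
        change eqToHom x.2.symm ≫ f.map s.right = A.hom at e1
        refine IsHomLift.of_fac' f _ _ x.2 rfl ?_
        rw [← e1]; simp
      obtain ⟨n, ⟨h1, h2⟩, h3⟩ := Functor.IsStronglyCartesian.universal_property f A.hom c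
        (𝟙 Y) A.hom (Category.id_comp A.hom).symm s.right
      refine ⟨⟨n, h1⟩, ?_, ?_⟩
      · apply StructuredArrow.hom_ext
        exact h2
      · rintro ⟨n', hn'⟩ e2
        exact Subtype.ext (h3 n' ⟨hn', congrArg (fun r => r.right) e2⟩)
    choose n hn1 hn2 using key
    refine (IsTerminal.ofUniqueHom (Y := T) (fun S => CostructuredArrow.homMk (n S.left S.hom) (hn1 _ _))
      ?_).hasTerminal
    intro S m
    apply CostructuredArrow.hom_ext
    exact hn2 S.left S.hom m.left (CostructuredArrow.w m)
  exact isLeftAdjoint_of_costructuredArrowTerminals _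

end Fibre

end K161.FibNerve
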