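import Groth.Agent.FibCat.K161.Equiv

/-!
# Fibrewise criteria, representability by a terminal object
-/

set_option autoImplicit false
set_option backward.isDefEq.respectTransparency false

open CategoryTheory CategoryTheory.Limits FibCat

universe v₆ u₆ v₅ u₅ v₄ u₄ v₃ u₃ v₂ u₂ v u

namespace K161.Fiberwise

open K161.Basic K161.Equiv

variable {C : Type u} [Category.{v} C]

section FiberMap

variable {𝒳 : BasedCategory.{v₂, u₂} C} {𝒴 : BasedCategory.{v₃, u₃} C}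

/-- The functor induced on fibre categories. -/
def fiberMap (G : 𝒳 ⥤ᵇ 𝒴) (U : C) : 𝒳.p.Fiber U ⥤ 𝒴.p.Fiber U where
  obj x := ⟨G.obj x.1, (G.w_obj x.1).trans x.2⟩
  map f := ⟨G.map f.1, isHomLift_map f.2⟩
  map_id _ := Subtype.ext (G.toFunctor.map_id _)
  map_comp _ _ := Subtype.ext (G.toFunctor.map_comp _ _)

theorem eq_fiberMap (G : 𝒳 ⥤ᵇ 𝒴) (U : C) (GU : 𝒳.p.Fiber U ⥤ 𝒴.p.Fiber U)
    (hGU : GU ⋙ Functor.Fiber.fiberInclusion = Functor.Fiber.fiberInclusion ⋙ G.toFunctor) :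
    GU = fiberMap G U := by
  have h1 : ∀ x, GU.obj x = (fiberMap G U).obj x := fun x =>
    Functor.Fiber.fiberInclusion_obj_inj (Functor.congr_obj hGU x)
  refine Functor.ext h1 (fun x y f => ?_)
  apply Functor.Fiber.hom_ext
  have h2 := Functor.congr_hom hGU f
  simp only [Functor.comp_map, Functor.map_comp, eqToHom_map] at h2 ⊢
  rw [h2]
  rfl

variable (G : 𝒳 ⥤ᵇ 𝒴)

theorem full_fiberMap (U : C) [G.toFunctor.Full] : (fiberMap G U).Full where
  map_surjective := by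
    intro x y f
    have e : G.map (G.toFunctor.preimage f.1) = f.1 := G.toFunctor.map_preimage f.1
    exact ⟨⟨G.toFunctor.preimage f.1, isHomLift_of_map (F := G) (by rw [e]; exact f.2)⟩, Subtype.ext e⟩

theorem faithful_fiberMap (U : C) [G.toFunctor.Faithful] : (fiberMap G U).Faithful where
  map_injective := by
    intro x y f g h
    exact Subtype.ext (G.toFunctor.map_injective (congrArg Subtype.val h))

/-- make an isomorphism in a fibre -/
def isoMk (p : 𝒳.obj ⥤ C) {U : C} {x y : p.Fiber U} (i : x.1 ≅ y.1) (h : p.IsHomLift (𝟙 U) i.hom) : x ≅ y where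
  hom := ⟨i.hom, h⟩
  inv := ⟨i.inv, by infer_instance⟩
  hom_inv_id := Subtype.ext i.hom_inv_id
  inv_hom_id := Subtype.ext i.inv_hom_id

theorem essSurj_fiberMap (U : C) (h : ESI G) : (fiberMap G U).EssSurj where
  mem_essImage := by
    rintro ⟨y, rfl⟩
    obtain ⟨x, i, hi⟩ := h y
    exact ⟨⟨x, (G.w_obj x).symm.trans (IsHomLift.domain_eq 𝒴.p (𝟙 _) i.hom)⟩, ⟨isoMk 𝒴.p i hi⟩⟩

theorem esi_of_fiberMap (h : ∀ U, (fiberMap G U).EssSurj) : ESI G := by
  intro y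
  obtain ⟨x, ⟨i⟩⟩ := (h (𝒴.p.obj y)).mem_essImage ⟨y, rfl⟩
  exact ⟨x.1, (Functor.Fiber.fiberInclusion).mapIso i, i.hom.2⟩

variable (hG : ∀ ⦃a b : 𝒳.obj⦄ (φ : a ⟶ b), 𝒳.p.IsStronglyCartesian (𝒳.p.map φ) φ →
      𝒴.p.IsStronglyCartesian (𝒳.p.map φ) (G.toFunctor.map φ))

include hG

theorem sc_map' {R S : C} (f : R ⟶ S) {a b : 𝒳.obj} (φ : a ⟶ b) (h : 𝒳.p.IsStronglyCartesian f φ) :
    𝒴.p.IsStronglyCartesian f (G.map φ) := by
  have h1 : 𝒳.p.IsHomLift f φ := inferInstance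
  obtain ⟨⟩ := h1
  exact hG φ h

theorem faithful_of_fiberMap [𝒳.p.IsFibered] (h : ∀ U, (fiberMap G U).Faithful) :
    G.toFunctor.Faithful where
  map_injective := by
    intro a b f g hfg
    have e : 𝒳.p.map f = 𝒳.p.map g := by
      have h1 := p_map_map G f
      have h2 := p_map_map G g
      have h3 : G.map f = G.map g := hfg
      rw [h3, h2] at h1
      exact ((cancel_mono _).1 ((cancel_epi _).1 h1)).symm
    obtain ⟨c, φ, hφ⟩ := IsPreFibered.exists_isCartesian 𝒳.p rfl (𝒳.p.map f)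
    have hφ' : 𝒳.p.IsStronglyCartesian (𝒳.p.map f) φ := inferInstance
    have hg : 𝒳.p.IsHomLift (𝒳.p.map f) g := by rw [e]; infer_instance
    obtain ⟨α, ⟨h1, h2⟩, -⟩ := Functor.IsStronglyCartesian.universal_property 𝒳.p (𝒳.p.map f) φ (𝟙 _)
      (𝒳.p.map f) (by simp) f
    obtain ⟨β, ⟨h3, h4⟩, -⟩ := Functor.IsStronglyCartesian.universal_property 𝒳.p (𝒳.p.map f) φ (𝟙 _)
      (𝒳.p.map f) (by simp) g
    have hc := IsHomLift.domain_eq 𝒳.p (𝒳.p.map f) φ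
    have h5 := sc_map' G hG _ φ hφ'
    have h6 : 𝒴.p.IsHomLift (𝟙 (𝒳.p.obj a)) (G.map α) := isHomLift_map h1
    have h7 : 𝒴.p.IsHomLift (𝟙 (𝒳.p.obj a)) (G.map β) := isHomLift_map h3
    have h8 : G.map α = G.map β := by
      apply Functor.IsStronglyCartesian.ext 𝒴.p (𝒳.p.map f) (G.map φ) (𝟙 (𝒳.p.obj a))
      change G.toFunctor.map α ≫ G.toFunctor.map φ = G.toFunctor.map β ≫ G.toFunctor.map φ
      rw [← Functor.map_comp, ← Functor.map_comp, h2, h4]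
      exact hfg
    let A : 𝒳.p.Fiber (𝒳.p.obj a) := ⟨a, rfl⟩
    let B : 𝒳.p.Fiber (𝒳.p.obj a) := ⟨c, hc⟩
    let α' : A ⟶ B := ⟨α, h1⟩
    let β' : A ⟶ B := ⟨β, h3⟩
    have h9 : α' = β' := (h (𝒳.p.obj a)).map_injective (Subtype.ext h8)
    have h10 : α = β := congrArg Subtype.val h9
    rw [← h2, ← h4, h10]

theorem full_of_fiberMap [𝒳.p.IsFibered] (h : ∀ U, (fiberMap G U).Full) :
    G.toFunctor.Full where
  map_surjective := by
    intro a b ψ
    let f : 𝒳.p.obj a ⟶ 𝒳.p.obj b := eqToHom (G.w_obj a).symm ≫ 𝒴.p.map ψ ≫ eqToHom (G.w_obj b)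
    have hψ : 𝒴.p.IsHomLift f ψ := by
      simp only [f]
      infer_instance
    obtain ⟨c, φ, hφ⟩ := IsPreFibered.exists_isCartesian 𝒳.p rfl f
    have hφ' : 𝒳.p.IsStronglyCartesian f φ := inferInstance
    have hc := IsHomLift.domain_eq 𝒳.p f φ
    have h5 := sc_map' G hG _ φ hφ'
    obtain ⟨α, ⟨h1, h2⟩, -⟩ := Functor.IsStronglyCartesian.universal_property 𝒴.p f (G.map φ) (𝟙 _)
      f (by simp) ψ
    let A : 𝒳.p.Fiber (𝒳.p.obj a) := ⟨a, rfl⟩
    let B : 𝒳.p.Fiber (𝒳.p.obj a) := ⟨c, hc⟩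
    obtain ⟨α', hα'⟩ := (h (𝒳.p.obj a)).map_surjective (X := A) (Y := B) ⟨α, h1⟩
    have h3 : G.map α'.1 = α := congrArg Subtype.val hα'
    refine ⟨α'.1 ≫ φ, ?_⟩
    rw [Functor.map_comp]
    change G.map α'.1 ≫ G.map φ = ψ
    rw [h3, h2]

theorem isEquivOver_iff_fiberMap [𝒳.p.IsFibered] :
    IsEquivOver G ↔ ∀ U, (fiberMap G U).IsEquivalence := by
  constructor
  · intro h U
    have := full_of h
    have := faithful_of h
    exact { faithful := faithful_fiberMap G U, full := full_fiberMap G U,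
            essSurj := essSurj_fiberMap G U (esi_of h) }
  · intro h
    exact isEquivOver_of G (full_of_fiberMap G hG fun U => (h U).full)
      (faithful_of_fiberMap G hG fun U => (h U).faithful) (esi_of_fiberMap G fun U => (h U).essSurj)

end FiberMap

section Representable

/-- The slice category is fibred in groupoids (even in sets). -/
theorem ul_overForget (U : C) : UL (Over.forget U) := by
  intro η V f
  refine ⟨⟨Over.mk (f ≫ η.hom), Over.homMk f⟩, ?_, ?_⟩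
  · dsimp only
    exact IsHomLift.map (Over.forget U) (Over.homMk f : Over.mk (f ≫ η.hom) ⟶ η)
  · rintro ⟨ξ, φ⟩ hφ
    obtain ⟨h, e⟩ := (isHomLift_iff_exists (Over.forget U) f φ).1 hφ
    clear hφ
    rcases ξ with ⟨L, ⟨⟨⟩⟩, q⟩
    change L = V at h
    subst h
    have e' : φ.left = f := by simpa using e
    have hq : q = f ≫ η.hom := by
      rw [← e']; exact (Over.w φ).symm
    change L ⟶ U at q
    subst hq
    have : φ = (Over.homMk f : Over.mk (f ≫ η.hom) ⟶ η) := Over.OverMorphism.ext e'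
    rw [this]
    rfl

theorem isFibGrpd_overCat (U : C) : IsFibGrpd (overCat U).p := (ul_overForget U).isFibGrpd

variable {𝒳 : BasedCategory.{v₂, u₂} C} {𝒴 : BasedCategory.{v₃, u₃} C}

/-- The functor to the slice given by an object towards which every object has a chosen unique
morphism. -/
def toOver (ξ : 𝒳.obj) (t : ∀ ρ : 𝒳.obj, Unique (ρ ⟶ ξ)) : 𝒳 ⥤ᵇ overCat (𝒳.p.obj ξ) where
  obj ρ := Over.mk (𝒳.p.map (t ρ).default)
  map {ρ ρ'} f := Over.homMk (𝒳.p.map f) (by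
    change 𝒳.p.map f ≫ 𝒳.p.map (t ρ').default = 𝒳.p.map (t ρ).default
    rw [← 𝒳.p.map_comp]
    exact congrArg _ ((t ρ).eq_default _))
  map_id ρ := Over.OverMorphism.ext (𝒳.p.map_id ρ)
  map_comp f g := Over.OverMorphism.ext (𝒳.p.map_comp f g)
  w := rfl

theorem isEquivOver_toOver (h : IsFibGrpd 𝒳.p) (ξ : 𝒳.obj) (t : ∀ ρ : 𝒳.obj, Unique (ρ ⟶ ξ)) :
    IsEquivOver (toOver ξ t) := by
  obtain ⟨h1, h2⟩ := (isFibGrpd_iff 𝒳.p).1 h
  refine isEquivOver_of _ ⟨?_⟩ ⟨?_⟩ ?_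
  · intro ρ ρ' f
    have f' : Over.mk (𝒳.p.map (t ρ).default) ⟶ Over.mk (𝒳.p.map (t ρ').default) := f
    obtain ⟨χ, ⟨h3, h4⟩, -⟩ := h2 (t ρ').default (t ρ).default
      (CommaMorphism.left (show Over.mk (𝒳.p.map (t ρ).default) ⟶ Over.mk (𝒳.p.map (t ρ').default) from f))
      (Over.w (show Over.mk (𝒳.p.map (t ρ).default) ⟶ Over.mk (𝒳.p.map (t ρ').default) from f))
    exact ⟨χ, Over.OverMorphism.ext h3⟩
  · intro ρ ρ' f g hfg
    have h3 : 𝒳.p.map f = 𝒳.p.map g := congrArg CommaMorphism.left hfg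
    have h4 : f ≫ (t ρ').default = g ≫ (t ρ').default := ((t ρ).eq_default _).trans ((t ρ).eq_default _).symm
    exact (h2 (t ρ').default (g ≫ (t ρ').default) (𝒳.p.map g) (by rw [𝒳.p.map_comp])).unique ⟨h3, h4⟩ ⟨rfl, rfl⟩
  · intro y
    change Over (𝒳.p.obj ξ) at y
    obtain ⟨x, φ, hφ⟩ := h1 ξ y.left y.hom
    have hx := IsHomLift.domain_eq 𝒳.p y.hom φ
    have hφ' : 𝒳.p.map φ = eqToHom hx ≫ y.hom := by simpa using IsHomLift.fac' 𝒳.p y.hom φ
    have e : (t x).default = φ := ((t x).eq_default φ).symm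
    refine ⟨x, Over.isoMk (eqToIso hx) ?_, ?_⟩
    · change eqToHom hx ≫ y.hom = 𝒳.p.map (t x).default
      rw [e, hφ']
    · refine IsHomLift.of_fac' (Over.forget _) _ _ hx rfl ?_
      simp

theorem isRepresentable_of_terminal (h : IsFibGrpd 𝒳.p) (ξ : 𝒳.obj)
    (t : ∀ ρ : 𝒳.obj, Nonempty (Unique (ρ ⟶ ξ))) : IsRepresentable 𝒳 := by
  exact ⟨_, toOver ξ fun ρ => (t ρ).some, isEquivOver_toOver h ξ _⟩

theorem IsRep.isFibGrpd (h : IsRepresentable 𝒳) : IsFibGrpd 𝒳.p := by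
  obtain ⟨U, F, hF⟩ := h
  exact isFibGrpd_of_isEquivOver hF (isFibGrpd_overCat U)

theorem IsRep.exists_terminal (h : IsRepresentable 𝒳) :
    ∃ ξ : 𝒳.obj, ∀ ρ : 𝒳.obj, Nonempty (Unique (ρ ⟶ ξ)) := by
  obtain ⟨U, F, hF⟩ := h
  have h1 := full_of hF
  have h2 := faithful_of hF
  obtain ⟨ξ, i, -⟩ := esi_of hF (Over.mk (𝟙 U) : Over U)
  refine ⟨ξ, fun ρ => ⟨⟨⟨F.toFunctor.preimage ((Over.mkIdTerminal.from (F.obj ρ)) ≫ i.inv)⟩, ?_⟩⟩⟩
  intro f
  apply F.toFunctor.map_injective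
  change F.toFunctor.map f = F.toFunctor.map (F.toFunctor.preimage _)
  rw [Functor.map_preimage]
  have h3 : F.toFunctor.map f ≫ i.hom = Over.mkIdTerminal.from (F.obj ρ) :=
    Over.mkIdTerminal.hom_ext _ _
  rw [← h3, Category.assoc, i.hom_inv_id, Category.comp_id]

theorem isRepresentable_iff : IsRepresentable 𝒳 ↔
    (IsFibGrpd 𝒳.p ∧ ∃ ξ : 𝒳.obj, ∀ ρ : 𝒳.obj, Nonempty (Unique (ρ ⟶ ξ))) :=
  ⟨fun h => ⟨IsRep.isFibGrpd h, IsRep.exists_terminal h⟩,
    fun ⟨h, ξ, t⟩ => isRepresentable_of_terminal h ξ t⟩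

theorem isRepresentable_of_isEquivOver {F : 𝒳 ⥤ᵇ 𝒴} (hF : IsEquivOver F) (h : IsRepresentable 𝒴) :
    IsRepresentable 𝒳 := by
  obtain ⟨U, G, hG⟩ := h
  exact ⟨U, BasedFunctor.comp F G, isEquivOver_comp hF hG⟩

theorem isRepresentable_iff_of_isEquivOver {F : 𝒳 ⥤ᵇ 𝒴} (hF : IsEquivOver F) :
    IsRepresentable 𝒳 ↔ IsRepresentable 𝒴 := by
  obtain ⟨G, hG, -⟩ := exists_inverse hF
  exact ⟨isRepresentable_of_isEquivOver hG, isRepresentable_of_isEquivOver hF⟩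

end Representable

end K161.Fiberwise
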