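import Groth.Agent.FibCat.K161.Fiberwise

/-!
# 2-fibre products over the base: elementwise criteria, base change and composition of
representable 1-morphisms
-/

set_option autoImplicit false
set_option backward.isDefEq.respectTransparency false

open CategoryTheory CategoryTheory.Limits FibCat

universe v₈ u₈ v₇ u₇ v₆ u₆ v₅ u₅ v₄ u₄ v₃ u₃ v₂ u₂ v u

namespace K161.Fp

open K161.Basic K161.Equiv K161.Fiberwise

variable {C : Type u} [Category.{v} C]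

section TwoCells

variable {𝒳 : BasedCategory.{v₂, u₂} C} {𝒴 : BasedCategory.{v₃, u₃} C} {𝒵 : BasedCategory.{v₄, u₄} C}
  {F G : 𝒳 ⥤ᵇ 𝒴}

/-- Components of a 2-isomorphism. -/
def cmp (e : F ≅ G) (x : 𝒳.obj) : F.obj x ≅ G.obj x := ((BasedNatTrans.forgetful _ _).mapIso e).app x

lemma cmp_hom (e : F ≅ G) (x : 𝒳.obj) : (cmp e x).hom = e.hom.toNatTrans.app x := rfl

lemma cmp_inv (e : F ≅ G) (x : 𝒳.obj) : (cmp e x).inv = e.inv.toNatTrans.app x := rfl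

lemma cmp_nat (e : F ≅ G) {x y : 𝒳.obj} (f : x ⟶ y) :
    F.map f ≫ (cmp e y).hom = (cmp e x).hom ≫ G.map f := e.hom.toNatTrans.naturality f

lemma cmp_lift (e : F ≅ G) (x : 𝒳.obj) : 𝒴.p.IsHomLift (𝟙 (𝒳.p.obj x)) (cmp e x).hom :=
  e.hom.isHomLift' x

/-- A 2-isomorphism from its components. -/
def mk2 (c : ∀ x, F.obj x ≅ G.obj x)
    (nat : ∀ {x y : 𝒳.obj} (f : x ⟶ y), F.map f ≫ (c y).hom = (c x).hom ≫ G.map f)
    (l : ∀ x, 𝒴.p.IsHomLift (𝟙 (𝒳.p.obj x)) (c x).hom) : F ≅ G :=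
  BasedNatIso.mkNatIso (NatIso.ofComponents c nat) l

@[simp]
lemma cmp_mk2 (c : ∀ x, F.obj x ≅ G.obj x)
    (nat : ∀ {x y : 𝒳.obj} (f : x ⟶ y), F.map f ≫ (c y).hom = (c x).hom ≫ G.map f)
    (l : ∀ x, 𝒴.p.IsHomLift (𝟙 (𝒳.p.obj x)) (c x).hom) (x : 𝒳.obj) :
    cmp (mk2 c nat l) x = c x := by
  ext
  rfl

end TwoCells

section Objects

variable {𝒳 : BasedCategory.{v₂, u₂} C} {𝒴 : BasedCategory.{v₃, u₃} C} {𝒮 : BasedCategory.{v₄, u₄} C}
  {F : 𝒳 ⥤ᵇ 𝒮} {G : 𝒴 ⥤ᵇ 𝒮}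

/-- Constructor for objects. -/
def fpMk (x : 𝒳.obj) (y : 𝒴.obj) (i : F.obj x ≅ G.obj y)
    (h : 𝒮.p.IsHomLift (𝟙 (𝒳.p.obj x)) i.hom) : (fp F G).obj := ⟨⟨x, y, i⟩, h⟩

/-- Constructor for morphisms. -/
def fpHom {a b : (fp F G).obj} (f : a.obj.fst ⟶ b.obj.fst) (g : a.obj.snd ⟶ b.obj.snd)
    (w : F.map f ≫ b.obj.iso.hom = a.obj.iso.hom ≫ G.map g) : a ⟶ b := ObjectProperty.homMk ⟨f, g, w⟩

lemma fp_ext {a b : (fp F G).obj} {f g : a ⟶ b} (h1 : f.hom.fst = g.hom.fst)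
    (h2 : f.hom.snd = g.hom.snd) : f = g :=
  ObjectProperty.hom_ext _ (CategoricalPullback.hom_ext h1 h2)

/-- Constructor for isomorphisms. -/
def fpIsoMk {a b : (fp F G).obj} (f : a.obj.fst ≅ b.obj.fst) (g : a.obj.snd ≅ b.obj.snd)
    (w : F.map f.hom ≫ b.obj.iso.hom = a.obj.iso.hom ≫ G.map g.hom) : a ≅ b :=
  (fpProp F G).isoMk (CategoricalPullback.mkIso f g w)

@[simp] lemma fpIsoMk_hom_fst {a b : (fp F G).obj} (f : a.obj.fst ≅ b.obj.fst) (g : a.obj.snd ≅ b.obj.snd)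
    (w : F.map f.hom ≫ b.obj.iso.hom = a.obj.iso.hom ≫ G.map g.hom) :
    (fpIsoMk f g w).hom.hom.fst = f.hom := rfl

@[simp] lemma fpIsoMk_hom_snd {a b : (fp F G).obj} (f : a.obj.fst ≅ b.obj.fst) (g : a.obj.snd ≅ b.obj.snd)
    (w : F.map f.hom ≫ b.obj.iso.hom = a.obj.iso.hom ≫ G.map g.hom) :
    (fpIsoMk f g w).hom.hom.snd = g.hom := rfl

lemma isHomLift_fp_iff {R S : C} (f : R ⟶ S) {a b : (fp F G).obj} (φ : a ⟶ b) :
    (fp F G).p.IsHomLift f φ ↔ 𝒳.p.IsHomLift f φ.hom.fst :=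
  (BasedFunctor.isHomLift_iff (fpFst F G) f φ).symm

lemma isHomLift_fp_iff' {R S : C} (f : R ⟶ S) {a b : (fp F G).obj} (φ : a ⟶ b) :
    (fp F G).p.IsHomLift f φ ↔ 𝒴.p.IsHomLift f φ.hom.snd :=
  (BasedFunctor.isHomLift_iff (fpSnd F G) f φ).symm

lemma snd_obj_eq (a : (fp F G).obj) : 𝒴.p.obj a.obj.snd = 𝒳.p.obj a.obj.fst :=
  (fpSnd F G).w_obj a

end Objects

section TwoCart

variable {𝒳 : BasedCategory.{v₂, u₂} C} {𝒴 : BasedCategory.{v₃, u₃} C} {𝒮 : BasedCategory.{v₄, u₄} C}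
  {𝒲 : BasedCategory.{v₅, u₅} C}
  {F : 𝒳 ⥤ᵇ 𝒮} {G : 𝒴 ⥤ᵇ 𝒮} (a : 𝒲 ⥤ᵇ 𝒳) (b : 𝒲 ⥤ᵇ 𝒴) (e : BasedFunctor.comp a F ≅ BasedFunctor.comp b G)

/-- Elementwise form of `IsTwoCartOver`. -/
structure TC : Prop where
  faithful : ∀ {w w' : 𝒲.obj} (g g' : w ⟶ w'), a.map g = a.map g' → b.map g = b.map g' → g = g'
  full : ∀ {w w' : 𝒲.obj} (α : a.obj w ⟶ a.obj w') (β : b.obj w ⟶ b.obj w'),
    F.map α ≫ (cmp e w').hom = (cmp e w).hom ≫ G.map β → ∃ g : w ⟶ w', a.map g = α ∧ b.map g = β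
  ess : ∀ (x : 𝒳.obj) (y : 𝒴.obj) (i : F.obj x ≅ G.obj y), 𝒮.p.IsHomLift (𝟙 (𝒳.p.obj x)) i.hom →
    ∃ (w : 𝒲.obj) (α : a.obj w ≅ x) (β : b.obj w ≅ y), 𝒳.p.IsHomLift (𝟙 (𝒳.p.obj x)) α.hom ∧
      F.map α.hom ≫ i.hom = (cmp e w).hom ≫ G.map β.hom

theorem isTwoCartOver_iff : IsTwoCartOver a b e ↔ TC a b e := by
  constructor
  · intro h
    have h1 := full_of h
    have h2 := faithful_of h
    refine ⟨fun g g' hg hg' => ?_, fun α β hαβ => ?_, fun x y i hi => ?_⟩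
    · exact (fpLift a b e).toFunctor.map_injective (fp_ext hg hg')
    · obtain ⟨g, hg⟩ := (fpLift a b e).toFunctor.map_surjective
        (show (fpLift a b e).toFunctor.obj _ ⟶ (fpLift a b e).toFunctor.obj _ from fpHom α β hαβ)
      exact ⟨g, congrArg (fun t => t.hom.fst) hg, congrArg (fun t => t.hom.snd) hg⟩
    · obtain ⟨w, j, hj⟩ := esi_of h (fpMk x y i hi)
      refine ⟨w, (fpFst F G).toFunctor.mapIso j, (fpSnd F G).toFunctor.mapIso j, ?_, ?_⟩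
      · exact (isHomLift_fp_iff _ _).1 hj
      · exact j.hom.hom.w
  · intro h
    refine isEquivOver_of _ ⟨fun {w w'} f => ?_⟩ ⟨fun {w w'} f g hfg => ?_⟩ ?_
    · obtain ⟨g, h1, h2⟩ := h.full (w := w) (w' := w') f.hom.fst f.hom.snd f.hom.w
      exact ⟨g, fp_ext h1 h2⟩
    · exact h.faithful f g (congrArg (fun t => t.hom.fst) hfg) (congrArg (fun t => t.hom.snd) hfg)
    · rintro ⟨⟨x, y, i⟩, hi⟩
      obtain ⟨w, α, β, h1, h2⟩ := h.ess x y i hi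
      exact ⟨w, fpIsoMk α β h2, (isHomLift_fp_iff _ _).2 h1⟩

/-- The universal square is 2-cartesian. -/
theorem tc_fp : TC (fpFst F G) (fpSnd F G) (fpIso F G) where
  faithful g g' h1 h2 := fp_ext h1 h2
  full α β h := ⟨fpHom α β h, rfl, rfl⟩
  ess x y i hi := ⟨fpMk x y i hi, Iso.refl _, Iso.refl _, inferInstanceAs (𝒳.p.IsHomLift _ (𝟙 x)), by
    change F.map (𝟙 x) ≫ i.hom = i.hom ≫ G.map (𝟙 y)
    rw [F.map_id, G.map_id, Category.id_comp, Category.comp_id]⟩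

variable {a b e}

/-- A 2-cartesian square stays so when the roles of the two legs are exchanged. -/
theorem TC.symm (h : TC a b e) : TC b a e.symm where
  faithful g g' h1 h2 := h.faithful g g' h2 h1
  full {w w'} β α hh := by
    obtain ⟨g, h1, h2⟩ := h.full α β (by
      have e1 : (cmp e.symm w').hom = (cmp e w').inv := rfl
      have e2 : (cmp e.symm w).hom = (cmp e w).inv := rfl
      rw [e1, e2, Iso.comp_inv_eq, Category.assoc, Iso.eq_inv_comp] at hh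
      exact hh.symm)
    exact ⟨g, h2, h1⟩
  ess y x i hi := by
    have hy : 𝒴.p.obj y = 𝒳.p.obj x := by
      have := IsHomLift.codomain_eq 𝒮.p (𝟙 (𝒴.p.obj y)) i.hom
      rw [F.w_obj] at this
      exact this.symm
    obtain ⟨w, α, β, h1, h2⟩ := h.ess x y i.symm (by
      rw [hy] at hi
      exact IsHomLift.lift_id_inv 𝒮.p _ i)
    have h3 : 𝒮.p.IsHomLift (𝟙 (𝒳.p.obj x)) (F.map α.hom) := isHomLift_map h1
    have h4 : 𝒮.p.IsHomLift (𝟙 (𝒳.p.obj x)) i.symm.hom := by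
      rw [hy] at hi
      exact IsHomLift.lift_id_inv 𝒮.p _ i
    have h5 : 𝒮.p.IsHomLift (𝟙 (𝒳.p.obj x)) (cmp e w).hom := by
      have := cmp_lift e w
      have hw : 𝒲.p.obj w = 𝒳.p.obj x := by
        rw [← a.w_obj]; exact IsHomLift.domain_eq 𝒳.p (𝟙 _) α.hom
      rwa [hw] at this
    refine ⟨w, β, α, ?_, ?_⟩
    · have h6 : 𝒮.p.IsHomLift (𝟙 (𝒳.p.obj x)) (G.map β.hom) := by
        have : G.map β.hom = (cmp e w).inv ≫ F.map α.hom ≫ i.symm.hom := by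
          rw [h2]; simp
        rw [this]
        infer_instance
      have h7 := isHomLift_of_map h6
      rwa [hy]
    · have e2 : (cmp e.symm w).hom = (cmp e w).inv := rfl
      rw [e2, Iso.eq_inv_comp, ← Category.assoc, ← h2]
      simp

/-- Pasting/base change: the comparison `𝒱 ×_𝒳 𝒲 ⟶ 𝒱 ×_𝒮 𝒴` for `H : 𝒱 ⟶ 𝒳` and a square
`(a, b, e)` over `(F, G)`. -/
noncomputable def baseIso {𝒱 : BasedCategory.{v₆, u₆} C} (H : 𝒱 ⥤ᵇ 𝒳)
    (e : BasedFunctor.comp a F ≅ BasedFunctor.comp b G) :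
    BasedFunctor.comp (fpFst H a) (BasedFunctor.comp H F) ≅
      BasedFunctor.comp (BasedFunctor.comp (fpSnd H a) b) G :=
  mk2 (fun z => F.toFunctor.mapIso z.obj.iso ≪≫ cmp e z.obj.snd)
    (fun {z z'} f => by
      change F.map (H.map f.hom.fst) ≫ F.map z'.obj.iso.hom ≫ (cmp e z'.obj.snd).hom =
        (F.map z.obj.iso.hom ≫ (cmp e z.obj.snd).hom) ≫ G.map (b.map f.hom.snd)
      have h1 := cmp_nat e f.hom.snd
      change F.map (a.map f.hom.snd) ≫ _ = _ ≫ G.map (b.map f.hom.snd) at h1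
      rw [Category.assoc, ← h1, ← Category.assoc, ← Category.assoc]
      congr 1
      change F.toFunctor.map _ ≫ F.toFunctor.map _ = F.toFunctor.map _ ≫ F.toFunctor.map _
      rw [← F.toFunctor.map_comp, ← F.toFunctor.map_comp]
      exact congrArg _ f.hom.w)
    (fun z => by
      change 𝒮.p.IsHomLift (𝟙 (𝒱.p.obj z.obj.fst)) (F.map z.obj.iso.hom ≫ (cmp e z.obj.snd).hom)
      have h1 := z.property
      have h2 : 𝒮.p.IsHomLift (𝟙 (𝒱.p.obj z.obj.fst)) (F.map z.obj.iso.hom) := isHomLift_map h1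
      have h3 := cmp_lift e z.obj.snd
      rw [snd_obj_eq z] at h3
      infer_instance)

theorem isEquivOver_base {𝒱 : BasedCategory.{v₆, u₆} C} (H : 𝒱 ⥤ᵇ 𝒳) (h : TC a b e) :
    IsTwoCartOver (fpFst H a) (BasedFunctor.comp (fpSnd H a) b) (baseIso H e) := by
  rw [isTwoCartOver_iff]
  refine ⟨fun {z z'} g g' h1 h2 => fp_ext h1 (h.faithful _ _ ?_ h2), fun {z z'} α β hh => ?_,
    fun v y i hi => ?_⟩
  · have h3 := g.hom.w
    have h4 := g'.hom.w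
    have h1' : g.hom.fst = g'.hom.fst := h1
    rw [h1'] at h3
    rw [h3] at h4
    exact (cancel_epi _).1 h4
  · change F.map (H.map α) ≫ F.map z'.obj.iso.hom ≫ (cmp e z'.obj.snd).hom =
        (F.map z.obj.iso.hom ≫ (cmp e z.obj.snd).hom) ≫ G.map β at hh
    obtain ⟨g, h1, h2⟩ := h.full (w := z.obj.snd) (w' := z'.obj.snd)
      (z.obj.iso.inv ≫ H.map α ≫ z'.obj.iso.hom) β (by
        have e1 : F.map (z.obj.iso.inv ≫ H.map α ≫ z'.obj.iso.hom) =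
          F.map z.obj.iso.inv ≫ F.map (H.map α) ≫ F.map z'.obj.iso.hom := by
          rw [F.map_comp, F.map_comp]
        have e2 : F.map z.obj.iso.inv ≫ F.map z.obj.iso.hom = 𝟙 _ := by
          rw [← F.map_comp, Iso.inv_hom_id, F.map_id]
        rw [e1, Category.assoc, Category.assoc, hh, ← Category.assoc, ← Category.assoc, e2,
          Category.id_comp])
    exact ⟨fpHom α g (by rw [h1]; simp), rfl, h2⟩
  · have hi' : 𝒮.p.IsHomLift (𝟙 (𝒳.p.obj (H.obj v))) i.hom := by rw [H.w_obj]; exact hi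
    obtain ⟨w, α, β, h1, h2⟩ := h.ess (H.obj v) y i hi'
    have h3 : 𝒳.p.IsHomLift (𝟙 (𝒱.p.obj v)) α.symm.hom := by
      rw [H.w_obj] at h1
      exact IsHomLift.lift_id_inv 𝒳.p _ α
    refine ⟨fpMk v w α.symm h3, Iso.refl _, β, inferInstanceAs (𝒱.p.IsHomLift _ (𝟙 v)), ?_⟩
    change F.map (H.map (𝟙 v)) ≫ i.hom = (F.map α.inv ≫ (cmp e w).hom) ≫ G.map β.hom
    rw [Category.assoc, ← h2, H.map_id, F.map_id, Category.id_comp, ← Category.assoc]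
    have e2 : F.map α.inv ≫ F.map α.hom = 𝟙 _ := by
      rw [← F.map_comp, Iso.inv_hom_id, F.map_id]
    rw [e2, Category.id_comp]

end TwoCart

section Map

variable {𝒳 : BasedCategory.{v₂, u₂} C} {𝒴 : BasedCategory.{v₃, u₃} C} {𝒮 : BasedCategory.{v₄, u₄} C}
  {𝒳' : BasedCategory.{v₅, u₅} C} {𝒴' : BasedCategory.{v₆, u₆} C} {𝒮' : BasedCategory.{v₇, u₇} C}
  {F : 𝒳 ⥤ᵇ 𝒮} {G : 𝒴 ⥤ᵇ 𝒮} {F' : 𝒳' ⥤ᵇ 𝒮'} {G' : 𝒴' ⥤ᵇ 𝒮'}
  (α : 𝒳 ⥤ᵇ 𝒳') (β : 𝒴 ⥤ᵇ 𝒴') (σ : 𝒮 ⥤ᵇ 𝒮') (e₁ : BasedFunctor.comp F σ ≅ BasedFunctor.comp α F')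
  (e₂ : BasedFunctor.comp G σ ≅ BasedFunctor.comp β G')

/-- The 2-cell used to build the functor induced on 2-fibre products. -/
noncomputable def mapCell : BasedFunctor.comp (BasedFunctor.comp (fpFst F G) α) F' ≅
    BasedFunctor.comp (BasedFunctor.comp (fpSnd F G) β) G' :=
  mk2 (fun z => (cmp e₁ z.obj.fst).symm ≪≫ σ.toFunctor.mapIso z.obj.iso ≪≫ cmp e₂ z.obj.snd)
    (fun {z z'} f => by
      change F'.map (α.map f.hom.fst) ≫ (cmp e₁ z'.obj.fst).inv ≫ σ.map z'.obj.iso.hom ≫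
        (cmp e₂ z'.obj.snd).hom =
        ((cmp e₁ z.obj.fst).inv ≫ σ.map z.obj.iso.hom ≫ (cmp e₂ z.obj.snd).hom) ≫
          G'.map (β.map f.hom.snd)
      have h1 : σ.map (F.map f.hom.fst) ≫ (cmp e₁ z'.obj.fst).hom =
        (cmp e₁ z.obj.fst).hom ≫ F'.map (α.map f.hom.fst) := cmp_nat e₁ f.hom.fst
      have h2 : σ.map (G.map f.hom.snd) ≫ (cmp e₂ z'.obj.snd).hom =
        (cmp e₂ z.obj.snd).hom ≫ G'.map (β.map f.hom.snd) := cmp_nat e₂ f.hom.snd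
      have h3 : σ.map (F.map f.hom.fst) ≫ σ.map z'.obj.iso.hom =
          σ.map z.obj.iso.hom ≫ σ.map (G.map f.hom.snd) := by
        rw [← σ.map_comp, ← σ.map_comp]
        exact congrArg _ f.hom.w
      have h4 : F'.map (α.map f.hom.fst) ≫ (cmp e₁ z'.obj.fst).inv =
          (cmp e₁ z.obj.fst).inv ≫ σ.map (F.map f.hom.fst) := by
        rw [Iso.comp_inv_eq, Category.assoc, h1, Iso.inv_hom_id_assoc]
      rw [reassoc_of% h4, reassoc_of% h3, h2]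
      simp only [Category.assoc])
    (fun z => by
      change 𝒮'.p.IsHomLift (𝟙 (𝒳.p.obj z.obj.fst))
        ((cmp e₁ z.obj.fst).inv ≫ σ.map z.obj.iso.hom ≫ (cmp e₂ z.obj.snd).hom)
      have h0 := cmp_lift e₁ z.obj.fst
      have h1 := z.property
      have h2 : 𝒮'.p.IsHomLift (𝟙 (𝒳.p.obj z.obj.fst)) (σ.map z.obj.iso.hom) := isHomLift_map h1
      have h3 := cmp_lift e₂ z.obj.snd
      rw [snd_obj_eq z] at h3
      infer_instance)

theorem isEquivOver_map (hα : IsEquivOver α) (hβ : IsEquivOver β) (h1 : σ.toFunctor.Full)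
    (h2 : σ.toFunctor.Faithful) : IsEquivOver (fpLift (BasedFunctor.comp (fpFst F G) α)
      (BasedFunctor.comp (fpSnd F G) β) (mapCell α β σ e₁ e₂)) := by
  have a1 := full_of hα
  have a2 := faithful_of hα
  have b1 := full_of hβ
  have b2 := faithful_of hβ
  apply (isTwoCartOver_iff _ _ _).2
  refine ⟨fun {z z'} g g' h1 h2 => fp_ext (α.toFunctor.map_injective h1) (β.toFunctor.map_injective h2),
    fun {z z'} s t hh => ?_, fun x y i hi => ?_⟩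
  · obtain ⟨s', hs⟩ := α.toFunctor.map_surjective (X := z.obj.fst) (Y := z'.obj.fst) s
    obtain ⟨t', ht⟩ := β.toFunctor.map_surjective (X := z.obj.snd) (Y := z'.obj.snd) t
    change F'.map s ≫ (cmp e₁ z'.obj.fst).inv ≫ σ.map z'.obj.iso.hom ≫ (cmp e₂ z'.obj.snd).hom =
        ((cmp e₁ z.obj.fst).inv ≫ σ.map z.obj.iso.hom ≫ (cmp e₂ z.obj.snd).hom) ≫ G'.map t at hh
    subst hs ht
    have h3 : σ.map (F.map s') ≫ (cmp e₁ z'.obj.fst).hom =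
        (cmp e₁ z.obj.fst).hom ≫ F'.map (α.map s') := cmp_nat e₁ s'
    have h4 : σ.map (G.map t') ≫ (cmp e₂ z'.obj.snd).hom =
        (cmp e₂ z.obj.snd).hom ≫ G'.map (β.map t') := cmp_nat e₂ t'
    have h5 : F'.map (α.map s') ≫ (cmp e₁ z'.obj.fst).inv =
          (cmp e₁ z.obj.fst).inv ≫ σ.map (F.map s') := by
        rw [Iso.comp_inv_eq, Category.assoc, h3, Iso.inv_hom_id_assoc]
    refine ⟨fpHom s' t' ?_, rfl, rfl⟩
    apply σ.toFunctor.map_injective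
    rw [σ.map_comp, σ.map_comp]
    simp only [Category.assoc, ← h4] at hh
    change F'.map (α.map s') ≫ _ = _ at hh
    rw [reassoc_of% h5] at hh
    have h6 := (cancel_epi _).1 hh
    rw [← Category.assoc, ← Category.assoc] at h6
    exact (cancel_mono _).1 h6
  · obtain ⟨x', ix, hx⟩ := esi_of hα x
    obtain ⟨y', iy, hy⟩ := esi_of hβ y
    have hxy : 𝒴'.p.obj y = 𝒳'.p.obj x := by
      have := IsHomLift.codomain_eq 𝒮'.p (𝟙 (𝒳'.p.obj x)) i.hom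
      rwa [G'.w_obj] at this
    have hxx : 𝒳.p.obj x' = 𝒳'.p.obj x := by
      rw [← α.w_obj]; exact IsHomLift.domain_eq 𝒳'.p (𝟙 (𝒳'.p.obj x)) ix.hom
    have hyy : 𝒴.p.obj y' = 𝒳'.p.obj x := by
      rw [← hxy, ← β.w_obj]; exact IsHomLift.domain_eq 𝒴'.p (𝟙 (𝒴'.p.obj y)) iy.hom
    have l1 := cmp_lift e₁ x'
    have l2 := cmp_lift e₂ y'
    rw [hxx] at l1
    rw [hyy] at l2
    rw [hxy] at hy
    let j : σ.obj (F.obj x') ≅ σ.obj (G.obj y') :=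
      cmp e₁ x' ≪≫ F'.toFunctor.mapIso ix ≪≫ i ≪≫ G'.toFunctor.mapIso iy.symm ≪≫ (cmp e₂ y').symm
    have hj : j.hom = (cmp e₁ x').hom ≫ F'.map ix.hom ≫ i.hom ≫ G'.map iy.inv ≫ (cmp e₂ y').inv := rfl
    have m1 : 𝒮'.p.IsHomLift (𝟙 (𝒳'.p.obj x)) (F'.map ix.hom) := isHomLift_map hx
    have m2 : 𝒴'.p.IsHomLift (𝟙 (𝒳'.p.obj x)) iy.inv := IsHomLift.lift_id_inv _ _ iy
    have m3 : 𝒮'.p.IsHomLift (𝟙 (𝒳'.p.obj x)) (G'.map iy.inv) := isHomLift_map m2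
    have m4 : 𝒮'.p.IsHomLift (𝟙 (𝒳'.p.obj x)) (cmp e₂ y').inv := IsHomLift.lift_id_inv _ _ _
    let k := σ.toFunctor.preimageIso j
    have hk : σ.map k.hom = j.hom := σ.toFunctor.map_preimage _
    have m5 : 𝒮.p.IsHomLift (𝟙 (𝒳.p.obj x')) k.hom := by
      apply isHomLift_of_map (F := σ)
      rw [hk, hj, hxx]
      infer_instance
    refine ⟨fpMk x' y' k m5, ix, iy, hx, ?_⟩
    change F'.map ix.hom ≫ i.hom =
      ((cmp e₁ x').inv ≫ σ.map k.hom ≫ (cmp e₂ y').hom) ≫ G'.map iy.hom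
    rw [hk, hj]
    have m6 : G'.map iy.inv ≫ G'.map iy.hom = 𝟙 _ := by
      rw [← G'.map_comp, Iso.inv_hom_id, G'.map_id]
    simp only [Category.assoc, Iso.inv_hom_id_assoc, m6, Category.comp_id]

end Map

section Representable

variable {𝒳 : BasedCategory.{v₂, u₂} C} {𝒴 : BasedCategory.{v₃, u₃} C} {𝒵 : BasedCategory.{v₄, u₄} C}
  {𝒲 : BasedCategory.{v₅, u₅} C}

theorem isEquivOver_swap {F : 𝒳 ⥤ᵇ 𝒵} {G : 𝒴 ⥤ᵇ 𝒵} :
    IsEquivOver (fpLift (fpSnd F G) (fpFst F G) (fpIso F G).symm) :=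
  (isTwoCartOver_iff _ _ _).2 tc_fp.symm

/-- Base change of representable 1-morphisms along a 2-cartesian square. -/
theorem isRepresentable1_of_tc {F : 𝒳 ⥤ᵇ 𝒵} {G : 𝒴 ⥤ᵇ 𝒵} {a : 𝒲 ⥤ᵇ 𝒳} {b : 𝒲 ⥤ᵇ 𝒴}
    {e : BasedFunctor.comp a F ≅ BasedFunctor.comp b G} (h : TC a b e) (hG : IsRepresentable1 G) :
    IsRepresentable1 a := by
  intro U H
  exact isRepresentable_of_isEquivOver (isEquivOver_base H h) (hG U (BasedFunctor.comp H F))

theorem isRepresentable1_fpFst {f : 𝒳 ⥤ᵇ 𝒴} (g : 𝒵 ⥤ᵇ 𝒴) (hf : IsRepresentable1 f) :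
    IsRepresentable1 (fpFst g f) := isRepresentable1_of_tc tc_fp hf

/-- Testing a representable 1-morphism on a representable category. -/
theorem isRepresentable_fp_of_isRepresentable {f : 𝒳 ⥤ᵇ 𝒴} (hf : IsRepresentable1 f)
    (h𝒲 : IsRepresentable 𝒲) (H : 𝒲 ⥤ᵇ 𝒴) : IsRepresentable (fp H f) := by
  obtain ⟨U, E, hE⟩ := h𝒲
  obtain ⟨E', hE', -⟩ := exists_inverse hE
  have h1 := hf U (BasedFunctor.comp E' H)
  have h2 := isEquivOver_map (F := BasedFunctor.comp E' H) (G := f) (F' := H) (G' := f) E'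
    (BasedFunctor.id 𝒳) (BasedFunctor.id 𝒴) (Iso.refl _) (Iso.refl _) hE' isEquivOver_id
    (inferInstanceAs (Functor.id _).Full) (inferInstanceAs (Functor.id _).Faithful)
  exact (isRepresentable_iff_of_isEquivOver h2).1 h1

/-- Composition of representable 1-morphisms. -/
theorem isRepresentable1_comp {f : 𝒳 ⥤ᵇ 𝒴} {g : 𝒴 ⥤ᵇ 𝒵} (hf : IsRepresentable1 f)
    (hg : IsRepresentable1 g) : IsRepresentable1 (BasedFunctor.comp f g) := by
  intro U H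
  have h1 := isRepresentable_fp_of_isRepresentable hf (hg U H) (fpSnd H g)
  have h2 := (isRepresentable_iff_of_isEquivOver (isEquivOver_swap (F := fpSnd H g) (G := f))).1 h1
  have h3 := isEquivOver_base (a := fpSnd H g) (b := fpFst H g) (F := g) (G := H)
    (e := (fpIso H g).symm) f (tc_fp.symm)
  have h4 := (isRepresentable_iff_of_isEquivOver h3).1 h2
  exact (isRepresentable_iff_of_isEquivOver (isEquivOver_swap (F := BasedFunctor.comp f g) (G := H))).1 h4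

/-- Invariance under 2-commutative squares with equivalences as horizontal arrows, one direction. -/
theorem isRepresentable1_of_square {f : 𝒳 ⥤ᵇ 𝒴} {f' : 𝒲 ⥤ᵇ 𝒵} (a : 𝒲 ⥤ᵇ 𝒳) (b : 𝒵 ⥤ᵇ 𝒴)
    (ha : IsEquivOver a) (hb1 : b.toFunctor.Full) (hb2 : b.toFunctor.Faithful)
    (e : BasedFunctor.comp f' b ≅ BasedFunctor.comp a f) (hf : IsRepresentable1 f) :
    IsRepresentable1 f' := by
  intro U H
  have h1 := isEquivOver_map (F := H) (G := f') (F' := BasedFunctor.comp H b) (G' := f)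
    (BasedFunctor.id _) a b (Iso.refl _) e isEquivOver_id ha hb1 hb2
  exact isRepresentable_of_isEquivOver h1 (hf U _)

/-- Invariance under 2-isomorphism. -/
theorem isRepresentable1_of_iso {f g : 𝒳 ⥤ᵇ 𝒴} (e : f ≅ g) (hf : IsRepresentable1 f) :
    IsRepresentable1 g :=
  isRepresentable1_of_square (BasedFunctor.id 𝒳) (BasedFunctor.id 𝒴) isEquivOver_id
    (inferInstanceAs (Functor.id _).Full) (inferInstanceAs (Functor.id _).Faithful) e.symm hf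

/-- Whiskering. -/
noncomputable def wL {F G : 𝒳 ⥤ᵇ 𝒴} (H : 𝒲 ⥤ᵇ 𝒳) (e : F ≅ G) :
    BasedFunctor.comp H F ≅ BasedFunctor.comp H G :=
  mk2 (fun w => cmp e (H.obj w)) (fun f => cmp_nat e (H.map f)) (fun w => by
    have := cmp_lift e (H.obj w)
    rw [H.w_obj] at this
    exact this)

/-- Whiskering. -/
noncomputable def wR {F G : 𝒳 ⥤ᵇ 𝒴} (e : F ≅ G) (H : 𝒴 ⥤ᵇ 𝒵) :
    BasedFunctor.comp F H ≅ BasedFunctor.comp G H :=
  mk2 (fun w => H.toFunctor.mapIso (cmp e w)) (fun f => by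
    change H.map (F.map f) ≫ H.map (cmp e _).hom = H.map (cmp e _).hom ≫ H.map (G.map f)
    rw [← H.map_comp, ← H.map_comp, cmp_nat]) (fun w => isHomLift_map (cmp_lift e w))

theorem isRepresentable1_iff_of_square {f : 𝒳 ⥤ᵇ 𝒴} {f' : 𝒲 ⥤ᵇ 𝒵} (a : 𝒲 ⥤ᵇ 𝒳) (b : 𝒵 ⥤ᵇ 𝒴)
    (ha : IsEquivOver a) (hb : IsEquivOver b)
    (e : BasedFunctor.comp f' b ≅ BasedFunctor.comp a f) :
    IsRepresentable1 f ↔ IsRepresentable1 f' := by
  refine ⟨isRepresentable1_of_square a b ha (full_of hb) (faithful_of hb) e, fun hf' U H => ?_⟩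
  obtain ⟨b', -, -, ⟨i⟩⟩ := exists_inverse hb
  have h1 := isEquivOver_map (F := BasedFunctor.comp H b') (G := f') (F' := H) (G' := f)
    (BasedFunctor.id _) a b (wL H i) e isEquivOver_id ha (full_of hb) (faithful_of hb)
  exact (isRepresentable_iff_of_isEquivOver h1).1 (hf' U _)

end Representable

section Product

variable {𝒳 : BasedCategory.{v₂, u₂} C} {𝒴 : BasedCategory.{v₃, u₃} C}

lemma prod_iso_hom (a : (fp (toSelf 𝒳) (toSelf 𝒴)).obj) :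
    a.obj.iso.hom = eqToHom (snd_obj_eq a).symm := by
  have h : (selfOver C).p.IsHomLift (𝟙 (𝒳.p.obj a.obj.fst)) a.obj.iso.hom := a.property
  have := IsHomLift.fac' (selfOver C).p (𝟙 (𝒳.p.obj a.obj.fst)) a.obj.iso.hom
  change a.obj.iso.hom = _ at this
  rw [this]
  simp

lemma prod_w_iff {a b : (fp (toSelf 𝒳) (toSelf 𝒴)).obj} (f : a.obj.fst ⟶ b.obj.fst)
    (g : a.obj.snd ⟶ b.obj.snd) :
    (toSelf 𝒳).map f ≫ b.obj.iso.hom = a.obj.iso.hom ≫ (toSelf 𝒴).map g ↔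
      𝒴.p.IsHomLift (𝒳.p.map f) g := by
  constructor
  · intro h
    exact fp_isHomLift_snd _ _ (fpHom f g h)
  · intro h
    rw [prod_iso_hom, prod_iso_hom]
    change 𝒳.p.map f ≫ _ = _ ≫ 𝒴.p.map g
    rw [IsHomLift.fac' 𝒴.p (𝒳.p.map f) g]
    simp

/-- Objects of the product. -/
def prodMk (x : 𝒳.obj) (y : 𝒴.obj) (h : 𝒳.p.obj x = 𝒴.p.obj y) :
    (fp (toSelf 𝒳) (toSelf 𝒴)).obj :=
  fpMk x y (eqToIso h) (by
    refine IsHomLift.of_fac' (𝟭 C) _ _ rfl h.symm ?_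
    simp [toSelf])

end Product

section ProductMap

variable {𝒳₁ : BasedCategory.{v₂, u₂} C} {𝒳₂ : BasedCategory.{v₃, u₃} C}
  {𝒴₁ : BasedCategory.{v₄, u₄} C} {𝒴₂ : BasedCategory.{v₅, u₅} C}
  {f₁ : 𝒳₁ ⥤ᵇ 𝒴₁} {f₂ : 𝒳₂ ⥤ᵇ 𝒴₂}
  (e : BasedFunctor.comp (BasedFunctor.comp (fpFst (toSelf 𝒳₁) (toSelf 𝒳₂)) f₁) (toSelf 𝒴₁) ≅
    BasedFunctor.comp (BasedFunctor.comp (fpSnd (toSelf 𝒳₁) (toSelf 𝒳₂)) f₂) (toSelf 𝒴₂))

/-- The product of two 1-morphisms. -/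
abbrev prodMap : fp (toSelf 𝒳₁) (toSelf 𝒳₂) ⥤ᵇ fp (toSelf 𝒴₁) (toSelf 𝒴₂) :=
  fpLift (BasedFunctor.comp (fpFst (toSelf 𝒳₁) (toSelf 𝒳₂)) f₁)
    (BasedFunctor.comp (fpSnd (toSelf 𝒳₁) (toSelf 𝒳₂)) f₂) e

variable {𝒲 : BasedCategory.{v₆, u₆} C} (G : 𝒲 ⥤ᵇ fp (toSelf 𝒴₁) (toSelf 𝒴₂))

/-- first comparison functor -/
noncomputable def prodA : fp G (prodMap e) ⥤ᵇ fp (BasedFunctor.comp G (fpFst _ _)) f₁ :=
  fpLift (fpFst G (prodMap e)) (BasedFunctor.comp (fpSnd G (prodMap e)) (fpFst _ _))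
    (wR (fpIso G (prodMap e)) (fpFst _ _))

/-- the 2-cell of the comparison -/
noncomputable def prodCell : BasedFunctor.comp (prodA e G)
      (BasedFunctor.comp (fpFst (BasedFunctor.comp G (fpFst _ _)) f₁) (BasedFunctor.comp G (fpSnd _ _))) ≅
    BasedFunctor.comp (BasedFunctor.comp (fpSnd G (prodMap e)) (fpSnd _ _)) f₂ :=
  wR (fpIso G (prodMap e)) (fpSnd _ _)

theorem isEquivOver_prod : IsEquivOver (fpLift (prodA e G)
    (BasedFunctor.comp (fpSnd G (prodMap e)) (fpSnd _ _)) (prodCell e G)) := by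
  apply (isTwoCartOver_iff _ _ _).2
  refine ⟨fun {z z'} g g' h1 h2 => ?_, fun {z z'} α β hh => ?_, fun x y i hi => ?_⟩
  · have h3 : g.hom.fst = g'.hom.fst := congrArg (fun t => t.hom.fst) h1
    have h4 : g.hom.snd.hom.fst = g'.hom.snd.hom.fst := congrArg (fun t => t.hom.snd) h1
    exact fp_ext h3 (fp_ext h4 h2)
  · have w1 := α.hom.w
    change (G.map α.hom.fst).hom.fst ≫ z'.obj.iso.hom.hom.fst =
      z.obj.iso.hom.hom.fst ≫ f₁.map α.hom.snd at w1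
    have l1 : 𝒳₁.p.IsHomLift (𝒲.p.map α.hom.fst) α.hom.snd := fp_isHomLift_snd _ _ α
    have l2 : 𝒳₂.p.IsHomLift (𝒲.p.map α.hom.fst) β :=
      fp_isHomLift_snd (BasedFunctor.comp (fpFst (BasedFunctor.comp G (fpFst _ _)) f₁)
        (BasedFunctor.comp G (fpSnd _ _))) f₂ (x := fpMk ((prodA e G).obj z) z.obj.snd.obj.snd
          (cmp (prodCell e G) z) (by
            have := cmp_lift (prodCell e G) z
            exact this)) (y := fpMk ((prodA e G).obj z') z'.obj.snd.obj.snd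
          (cmp (prodCell e G) z') (by
            have := cmp_lift (prodCell e G) z'
            exact this)) (fpHom α β hh)
    change (G.map α.hom.fst).hom.snd ≫ z'.obj.iso.hom.hom.snd =
      z.obj.iso.hom.hom.snd ≫ f₂.map β at hh
    have l3 : 𝒳₂.p.IsHomLift (𝒳₁.p.map α.hom.snd) β := by
      rw [IsHomLift.fac' 𝒳₁.p (𝒲.p.map α.hom.fst) α.hom.snd]
      infer_instance
    exact ⟨fpHom α.hom.fst (fpHom α.hom.snd β ((prod_w_iff _ _).2 l3)) (fp_ext w1 hh),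
      fp_ext rfl rfl, rfl⟩
  · obtain ⟨⟨u, x₁, i₁⟩, hi₁⟩ := x
    change 𝒴₁.p.IsHomLift (𝟙 (𝒲.p.obj u)) i₁.hom at hi₁
    change 𝒴₂.p.IsHomLift (𝟙 (𝒲.p.obj u)) i.hom at hi
    change (G.obj u).obj.snd ≅ f₂.obj y at i
    change (G.obj u).obj.fst ≅ f₁.obj x₁ at i₁
    have e1 : 𝒳₁.p.obj x₁ = 𝒲.p.obj u := by
      rw [← f₁.w_obj]; exact IsHomLift.codomain_eq 𝒴₁.p (𝟙 (𝒲.p.obj u)) i₁.hom
    have e2 : 𝒳₂.p.obj y = 𝒲.p.obj u := by
      rw [← f₂.w_obj]; exact IsHomLift.codomain_eq 𝒴₂.p (𝟙 (𝒲.p.obj u)) i.hom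
    let m := prodMk x₁ y (e1.trans e2.symm)
    let I : G.obj u ≅ (prodMap e).obj m := fpIsoMk i₁ i ((prod_w_iff _ _).2 (by
      rw [IsHomLift.fac' 𝒴₁.p (𝟙 (𝒲.p.obj u)) i₁.hom]
      infer_instance))
    have hI : (fp (toSelf 𝒴₁) (toSelf 𝒴₂)).p.IsHomLift (𝟙 (𝒲.p.obj u)) I.hom :=
      (isHomLift_fp_iff _ _).2 hi₁
    refine ⟨fpMk u m I hI, fpIsoMk (Iso.refl _) (Iso.refl _) ?_, Iso.refl _, ?_, ?_⟩
    · change (G.map (𝟙 u)).hom.fst ≫ i₁.hom = i₁.hom ≫ f₁.map (𝟙 x₁)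
      rw [f₁.map_id, G.map_id, Category.comp_id]
      exact Category.id_comp _
    · exact (isHomLift_fp_iff _ _).2 (inferInstanceAs (𝒲.p.IsHomLift (𝟙 (𝒲.p.obj u)) (𝟙 u)))
    · change (G.map (𝟙 u)).hom.snd ≫ i.hom = i.hom ≫ f₂.map (𝟙 y)
      rw [f₂.map_id, G.map_id, Category.comp_id]
      exact Category.id_comp _

theorem isRepresentable1_prodMap (hf₁ : IsRepresentable1 f₁) (hf₂ : IsRepresentable1 f₂) :
    IsRepresentable1 (prodMap e) := by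
  intro U G
  refine isRepresentable_of_isEquivOver (isEquivOver_prod e G) ?_
  exact isRepresentable_fp_of_isRepresentable hf₂ (hf₁ U _) _

end ProductMap

end K161.Fp
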