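import Groth.Agent.FibCat.K161.Fp

/-!
# 2-fibre products fibred in groupoids, in setoids; graphs; slices
-/

set_option autoImplicit false
set_option backward.isDefEq.respectTransparency false

open CategoryTheory CategoryTheory.Limits FibCat

universe v₈ u₈ v₇ u₇ v₆ u₆ v₅ u₅ v₄ u₄ v₃ u₃ v₂ u₂ v u

namespace K161.Fp2

open K161.Basic K161.Equiv K161.Fiberwise K161.Fp

section CompFib

variable {A : Type u₂} [Category.{v₂} A] {B : Type u₃} [Category.{v₃} B] {D : Type u₄} [Category.{v₄} D]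
  {p : A ⥤ B} {q : B ⥤ D}

theorem SC_comp {b a : A} (φ : b ⟶ a) (h1 : SC p φ) (h2 : SC q (p.map φ)) : SC (p ⋙ q) φ := by
  intro c ψ h e
  obtain ⟨k, ⟨hk1, hk2⟩, hk3⟩ := h2 (p.map ψ) h e
  obtain ⟨χ, ⟨h3, h4⟩, h5⟩ := h1 ψ k hk2
  refine ⟨χ, ⟨?_, h4⟩, ?_⟩
  · change q.map (p.map χ) = h
    rw [h3, hk1]
  · rintro χ' ⟨h3', h4'⟩
    refine h5 χ' ⟨hk3 _ ⟨h3', ?_⟩, h4'⟩
    rw [← p.map_comp, h4']

theorem isFibGrpd_comp (hp : IsFibGrpd p) (hq : IsFibGrpd q) : IsFibGrpd (p ⋙ q) := by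
  rw [isFibGrpd_iff] at hp hq ⊢
  refine ⟨fun a R f => ?_, fun b a φ => SC_comp φ (hp.2 φ) (hq.2 _)⟩
  obtain ⟨b, ψ, hψ⟩ := hq.1 (p.obj a) R f
  obtain ⟨c, χ, hχ⟩ := hp.1 a b ψ
  refine ⟨c, χ, ?_⟩
  obtain ⟨rfl, e⟩ := (isHomLift_iff_exists q f ψ).1 hψ
  simp only [eqToHom_refl, Category.id_comp] at e
  rw [← e]
  exact isHomLift_comp (G := q) p χ hχ

end CompFib

variable {C : Type u} [Category.{v} C]

section Fp

variable {𝒳 : BasedCategory.{v₂, u₂} C} {𝒴 : BasedCategory.{v₃, u₃} C} {𝒮 : BasedCategory.{v₄, u₄} C}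
  {F : 𝒳 ⥤ᵇ 𝒮} {G : 𝒴 ⥤ᵇ 𝒮}

lemma grpd_sc {𝒳 : BasedCategory.{v₂, u₂} C} (h : IsFibGrpd 𝒳.p) {R S : C} (f : R ⟶ S) {a b : 𝒳.obj}
    (φ : a ⟶ b) [hf : 𝒳.p.IsHomLift f φ] : 𝒳.p.IsStronglyCartesian f φ :=
  (isStronglyCartesian_iff _ _ _).2 ⟨hf, (sc_iff _ _).1 (h.isStronglyCartesian φ)⟩

/-- The first projection of a 2-fibre product is fibred in groupoids. -/
theorem isFibGrpd_fpFst (h𝒴 : IsFibGrpd 𝒴.p) (h𝒮 : IsFibGrpd 𝒮.p) :
    IsFibGrpd (fpFst F G).toFunctor := by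
  rw [isFibGrpd_iff]
  constructor
  · intro z x' m
    change x' ⟶ z.obj.fst at m
    have hz := snd_obj_eq z
    obtain ⟨y', n, hn⟩ := h𝒴.exists_lift (𝒳.p.map m ≫ eqToHom hz.symm)
    have hn' : 𝒴.p.IsHomLift (𝒳.p.map m) n := by simpa using hn
    have l1 : 𝒮.p.IsHomLift (𝒳.p.map m) (G.map n) := isHomLift_map hn'
    have l2 : 𝒮.p.IsHomLift (𝒳.p.map m) (F.map m ≫ z.obj.iso.hom) := by
      have h1 : 𝒮.p.IsHomLift (𝒳.p.map m) (F.map m) := isHomLift_map inferInstance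
      have h2 : 𝒮.p.IsHomLift (𝟙 (𝒳.p.obj z.obj.fst)) z.obj.iso.hom := z.property
      infer_instance
    have s1 := grpd_sc h𝒮 (𝒳.p.map m) (G.map n)
    have s2 := grpd_sc h𝒮 (𝒳.p.map m) (F.map m ≫ z.obj.iso.hom)
    let i : F.obj x' ≅ G.obj y' := Functor.IsCartesian.domainUniqueUpToIso 𝒮.p (𝒳.p.map m) (G.map n)
      (F.map m ≫ z.obj.iso.hom)
    have hi : 𝒮.p.IsHomLift (𝟙 (𝒳.p.obj x')) i.hom := inferInstance
    have hi2 : i.hom ≫ G.map n = F.map m ≫ z.obj.iso.hom :=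
      Functor.IsCartesian.fac 𝒮.p (𝒳.p.map m) (G.map n) _
    refine ⟨fpMk x' y' i hi, fpHom m n hi2.symm, ?_⟩
    exact IsHomLift.map (fpFst F G).toFunctor (fpHom (a := fpMk x' y' i hi) m n hi2.symm)
  · intro z' z φ z'' ψ h e
    change z''.obj.fst ⟶ z'.obj.fst at h
    change h ≫ φ.hom.fst = ψ.hom.fst at e
    have hφ : 𝒴.p.IsHomLift (𝒳.p.map φ.hom.fst) φ.hom.snd := fp_isHomLift_snd _ _ φ
    have hψ : 𝒴.p.IsHomLift (𝒳.p.map ψ.hom.fst) ψ.hom.snd := fp_isHomLift_snd _ _ ψ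
    have s1 := grpd_sc h𝒴 (𝒳.p.map φ.hom.fst) φ.hom.snd
    obtain ⟨χ, ⟨h1, h2⟩, h3⟩ := Functor.IsStronglyCartesian.universal_property 𝒴.p
      (𝒳.p.map φ.hom.fst) φ.hom.snd (𝒳.p.map h) (𝒳.p.map ψ.hom.fst)
      (by rw [← e, 𝒳.p.map_comp]) ψ.hom.snd
    have l1 : 𝒮.p.IsHomLift (𝒳.p.map φ.hom.fst) (G.map φ.hom.snd) := isHomLift_map hφ
    have s2 := grpd_sc h𝒮 (𝒳.p.map φ.hom.fst) (G.map φ.hom.snd)
    have l2 : 𝒮.p.IsHomLift (𝒳.p.map h) (F.map h ≫ z'.obj.iso.hom) := by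
      have h1 : 𝒮.p.IsHomLift (𝒳.p.map h) (F.map h) := isHomLift_map inferInstance
      have h2 : 𝒮.p.IsHomLift (𝟙 (𝒳.p.obj z'.obj.fst)) z'.obj.iso.hom := z'.property
      infer_instance
    have l3 : 𝒮.p.IsHomLift (𝒳.p.map h) (z''.obj.iso.hom ≫ G.map χ) := by
      have h1 : 𝒮.p.IsHomLift (𝒳.p.map h) (G.map χ) := isHomLift_map h1
      have h2 : 𝒮.p.IsHomLift (𝟙 (𝒳.p.obj z''.obj.fst)) z''.obj.iso.hom := z''.property
      infer_instance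
    have w : F.map h ≫ z'.obj.iso.hom = z''.obj.iso.hom ≫ G.map χ := by
      apply Functor.IsStronglyCartesian.ext 𝒮.p (𝒳.p.map φ.hom.fst) (G.map φ.hom.snd) (𝒳.p.map h)
      have e1 := φ.hom.w
      have e2 := ψ.hom.w
      change F.map φ.hom.fst ≫ _ = _ ≫ G.map φ.hom.snd at e1
      change F.map ψ.hom.fst ≫ _ = _ ≫ G.map ψ.hom.snd at e2
      rw [Category.assoc, Category.assoc, ← e1, ← G.map_comp, h2, ← e2, ← e, F.map_comp,
        Category.assoc]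
    refine ⟨fpHom h χ w, ⟨rfl, fp_ext e h2⟩, ?_⟩
    rintro χ' ⟨h4, h5⟩
    have h4' : χ'.hom.fst = h := h4
    refine fp_ext h4' (h3 _ ⟨?_, congrArg (fun t => t.hom.snd) h5⟩)
    have := fp_isHomLift_snd _ _ χ'
    rw [← h4']
    exact this

theorem isFibGrpd_fp (h𝒳 : IsFibGrpd 𝒳.p) (h𝒴 : IsFibGrpd 𝒴.p) (h𝒮 : IsFibGrpd 𝒮.p) :
    IsFibGrpd (fp F G).p :=
  isFibGrpd_comp (p := (fpFst F G).toFunctor) (q := 𝒳.p) (isFibGrpd_fpFst h𝒴 h𝒮) h𝒳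

theorem isFibGrpd_selfOver : IsFibGrpd (selfOver C).p := by
  rw [isFibGrpd_iff]
  refine ⟨fun a R f => ⟨R, f, IsHomLift.map (𝟭 C) f⟩, fun b a φ c ψ h e => ⟨h, ⟨rfl, e⟩, fun _ hh => hh.1⟩⟩

/-- Thinness of the fibres of a 2-fibre product. -/
theorem thin_fp (h1 : F.toFunctor.Faithful) (h2 : ∀ U, Quiver.IsThin (𝒴.p.Fiber U)) (U : C) :
    Quiver.IsThin ((fp F G).p.Fiber U) := by
  rintro ⟨z, hz⟩ ⟨z', hz'⟩
  refine ⟨fun a b => Subtype.ext ?_⟩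
  obtain ⟨a, ha⟩ := a
  obtain ⟨b, hb⟩ := b
  change z ⟶ z' at a
  change z ⟶ z' at b
  change (fp F G).p.IsHomLift (𝟙 U) a at ha
  change (fp F G).p.IsHomLift (𝟙 U) b at hb
  change a = b
  have ha' := (isHomLift_fp_iff' _ _).1 ha
  have hb' := (isHomLift_fp_iff' _ _).1 hb
  let y : 𝒴.p.Fiber U := ⟨z.obj.snd, (snd_obj_eq z).trans hz⟩
  let y' : 𝒴.p.Fiber U := ⟨z'.obj.snd, (snd_obj_eq z').trans hz'⟩
  have h3 : (⟨a.hom.snd, ha'⟩ : y ⟶ y') = ⟨b.hom.snd, hb'⟩ := (h2 U y y').elim _ _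
  have h4 : a.hom.snd = b.hom.snd := congrArg Subtype.val h3
  refine fp_ext (F.toFunctor.map_injective ?_) h4
  have e1 := a.hom.w
  have e2 := b.hom.w
  rw [h4, ← e2] at e1
  exact (cancel_mono _).1 e1

end Fp

section Graph

variable {𝒳 : BasedCategory.{v₂, u₂} C} {𝒴 : BasedCategory.{v₃, u₃} C} {𝒵 : BasedCategory.{v₄, u₄} C}
  (f : 𝒳 ⥤ᵇ 𝒴) (g : 𝒴 ⥤ᵇ 𝒵)

/-- The graph. -/
noncomputable def graph : 𝒳 ⥤ᵇ fp (BasedFunctor.comp f g) g :=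
  fpLift (BasedFunctor.id 𝒳) f (Iso.refl _)

/-- `f × 𝟙`. -/
noncomputable def fprod : fp (BasedFunctor.comp f g) g ⥤ᵇ fp g g :=
  fpLift (BasedFunctor.comp (fpFst (BasedFunctor.comp f g) g) f) (fpSnd _ _) (fpIso _ _)

/-- The square expressing the graph as a base change of the diagonal. -/
noncomputable def graphCell : BasedFunctor.comp (graph f g) (fprod f g) ≅ BasedFunctor.comp f (diag g) :=
  Iso.refl _

theorem tc_graph : TC (graph f g) f (graphCell f g) where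
  faithful s t h _ := congrArg (fun r => r.hom.fst) h
  full {w w'} α β h := by
    have h' : (fprod f g).map α ≫ 𝟙 _ = 𝟙 _ ≫ (diag g).map β := h
    rw [Category.comp_id, Category.id_comp] at h'
    have h1 : f.map α.hom.fst = β := congrArg (fun r => r.hom.fst) h'
    have h2 : α.hom.snd = β := congrArg (fun r => r.hom.snd) h'
    exact ⟨α.hom.fst, fp_ext rfl (h1.trans h2.symm), h1⟩
  ess z y i hi := by
    change (fprod f g).obj z ≅ (diag g).obj y at i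
    let j₁ : f.obj z.obj.fst ≅ y := (fpFst g g).toFunctor.mapIso i
    let j₂ : z.obj.snd ≅ y := (fpSnd g g).toFunctor.mapIso i
    have hw : g.map j₁.hom ≫ 𝟙 _ = z.obj.iso.hom ≫ g.map j₂.hom := i.hom.hom.w
    rw [Category.comp_id] at hw
    refine ⟨z.obj.fst, fpIsoMk (Iso.refl _) (j₁ ≪≫ j₂.symm) ?_, j₁, ?_, ?_⟩
    · change g.map (f.map (𝟙 z.obj.fst)) ≫ z.obj.iso.hom = 𝟙 (g.obj (f.obj z.obj.fst)) ≫ g.map (j₁.hom ≫ j₂.inv)
      rw [f.map_id, g.map_id, Category.id_comp, Category.id_comp, g.map_comp, hw, Category.assoc,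
        ← g.map_comp, Iso.hom_inv_id, g.map_id, Category.comp_id]
    · exact (isHomLift_fp_iff _ _).2 (inferInstanceAs (𝒳.p.IsHomLift (𝟙 (𝒳.p.obj z.obj.fst)) (𝟙 z.obj.fst)))
    · apply fp_ext
      · change f.map (𝟙 z.obj.fst) ≫ j₁.hom = 𝟙 (f.obj z.obj.fst) ≫ j₁.hom
        rw [f.map_id]
      · change (j₁.hom ≫ j₂.inv) ≫ j₂.hom = 𝟙 (f.obj z.obj.fst) ≫ j₁.hom
        rw [Category.assoc, Iso.inv_hom_id, Category.comp_id, Category.id_comp]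

theorem isRepresentable1_of_comp_of_diag (h1 : IsRepresentable1 (BasedFunctor.comp f g))
    (h2 : IsRepresentable1 (diag g)) : IsRepresentable1 f := by
  have h3 : IsRepresentable1 (graph f g) := isRepresentable1_of_tc (tc_graph f g) h2
  have h4 : IsRepresentable1 (fpSnd (BasedFunctor.comp f g) g) := isRepresentable1_of_tc tc_fp.symm h1
  exact isRepresentable1_comp h3 h4

end Graph

section Isom

variable {𝒲 : BasedCategory.{v₂, u₂} C} {𝒮 : BasedCategory.{v₃, u₃} C}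

theorem isFibSetoid_fpFst_diag (h𝒮 : IsFibGrpd 𝒮.p) (x y : 𝒲 ⥤ᵇ 𝒮)
    (e : BasedFunctor.comp x (toSelf 𝒮) ≅ BasedFunctor.comp y (toSelf 𝒮)) :
    IsFibSetoid (fpFst (fpLift x y e) (diag (toSelf 𝒮))).toFunctor := by
  refine ⟨isFibGrpd_fpFst h𝒮 (isFibGrpd_fp h𝒮 h𝒮 isFibGrpd_selfOver), fun w => ?_⟩
  rintro ⟨z, hz⟩ ⟨z', hz'⟩
  refine ⟨fun a b => Subtype.ext ?_⟩
  obtain ⟨a, ha⟩ := a
  obtain ⟨b, hb⟩ := b
  change z ⟶ z' at a
  change z ⟶ z' at b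
  change (fpFst (fpLift x y e) (diag (toSelf 𝒮))).toFunctor.IsHomLift (𝟙 w) a at ha
  change (fpFst (fpLift x y e) (diag (toSelf 𝒮))).toFunctor.IsHomLift (𝟙 w) b at hb
  change a = b
  have h1 : a.hom.fst = b.hom.fst :=
    (IsHomLift.fac' (fpFst (fpLift x y e) (diag (toSelf 𝒮))).toFunctor (𝟙 w) a).trans
      (IsHomLift.fac' (fpFst (fpLift x y e) (diag (toSelf 𝒮))).toFunctor (𝟙 w) b).symm
  refine fp_ext h1 ?_
  have e1 := congrArg (fun r => r.hom.fst) a.hom.w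
  have e2 := congrArg (fun r => r.hom.fst) b.hom.w
  change (fpLift x y e |>.map a.hom.fst).hom.fst ≫ z'.obj.iso.hom.hom.fst =
    z.obj.iso.hom.hom.fst ≫ a.hom.snd at e1
  change (fpLift x y e |>.map b.hom.fst).hom.fst ≫ z'.obj.iso.hom.hom.fst =
    z.obj.iso.hom.hom.fst ≫ b.hom.snd at e2
  rw [h1, e2] at e1
  exact ((cancel_epi ((fpFst (toSelf 𝒮) (toSelf 𝒮)).toFunctor.mapIso z.obj.iso).hom).1 e1).symm

end Isom

section PlainPullback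

variable {A : Type u₂} {B : Type u₃} {D : Type u₄} [Category.{v₂} A] [Category.{v₃} B]
  [Category.{v₄} D] (F : A ⥤ B) (G : D ⥤ B)

/-- The first projection of the 2-fibre product of `F` with a fibred `G` is fibred. -/
theorem isFibered_π₁ [hG : G.IsFibered] : (CategoricalPullback.π₁ F G).IsFibered := by
  rw [isFibered_iff] at hG ⊢
  intro z a' m
  change a' ⟶ z.fst at m
  obtain ⟨d', n, hn, hsc⟩ := hG z.snd (F.obj a') (F.map m ≫ z.iso.hom)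
  obtain ⟨hd, hn'⟩ := (isHomLift_iff_exists G _ n).1 hn
  let z' : CategoricalPullback F G := ⟨a', d', (eqToIso hd).symm⟩
  let φ : z' ⟶ z := ⟨m, n, by
    change F.map m ≫ z.iso.hom = eqToHom hd.symm ≫ G.map n
    rw [hn']; simp⟩
  refine ⟨z', φ, IsHomLift.map (CategoricalPullback.π₁ F G) φ, ?_⟩
  intro z'' ψ h e
  change z''.fst ⟶ a' at h
  change h ≫ m = ψ.fst at e
  obtain ⟨χ, ⟨h1, h2⟩, h3⟩ := hsc ψ.snd (z''.iso.inv ≫ F.map h ≫ eqToHom hd.symm) (by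
    rw [hn']
    have := ψ.w
    simp only [Category.assoc, eqToHom_trans_assoc, eqToHom_refl, Category.id_comp]
    rw [Iso.inv_comp_eq, ← this, ← e, F.map_comp, Category.assoc])
  refine ⟨⟨h, χ, ?_⟩, ⟨rfl, CategoricalPullback.hom_ext e h2⟩, ?_⟩
  · change F.map h ≫ eqToHom hd.symm = z''.iso.hom ≫ G.map χ
    rw [h1]; simp
  · rintro χ' ⟨h4, h5⟩
    have h4' : χ'.fst = h := h4
    refine CategoricalPullback.hom_ext h4' (h3 _ ⟨?_, congrArg (fun t => t.snd) h5⟩)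
    have := χ'.w
    change F.map χ'.fst ≫ eqToHom hd.symm = z''.iso.hom ≫ G.map χ'.snd at this
    rw [h4'] at this
    rw [this]; simp

end PlainPullback

end K161.Fp2
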