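import Groth.Agent.FibCat.K161.Fp2

/-!
# Plain 2-fibre products
-/

set_option autoImplicit false
set_option backward.isDefEq.respectTransparency false

open CategoryTheory CategoryTheory.Limits FibCat

universe v₅ u₅ v₄ u₄ v₃ u₃ v₂ u₂ v u

namespace K161.PlainPb

open K161.Basic K161.Equiv K161.Fiberwise K161.Fp K161.Fp2

theorem isFibGrpd_π₂_id {S : Type u} [Category.{v} S] {X : Type u₂} [Category.{v₂} X]
    {Y : Type u₃} [Category.{v₃} Y] (πX : X ⥤ S) (F : Y ⥤ X) (hX : IsFibGrpd πX)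
    (hY : IsFibGrpd (F ⋙ πX)) : IsFibGrpd (CategoricalPullback.π₂ F (𝟭 X)) := by
  rw [isFibGrpd_iff] at hY ⊢
  have hX' := (isFibGrpd_iff πX).1 hX
  constructor
  · intro z x' g
    change x' ⟶ z.snd at g
    let i : F.obj z.fst ≅ z.snd := z.iso
    obtain ⟨y', n, hn⟩ := hY.1 z.fst (πX.obj x') (πX.map (g ≫ i.inv))
    have hd := IsHomLift.domain_eq (F ⋙ πX) (πX.map (g ≫ i.inv)) n
    have e1 := IsHomLift.fac' (F ⋙ πX) (πX.map (g ≫ i.inv)) n
    change πX.map (F.map n) = _ at e1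
    have l1 : πX.IsHomLift (πX.map (g ≫ i.inv)) (F.map n) :=
      IsHomLift.of_fac' πX _ _ hd rfl e1
    have s1 : πX.IsStronglyCartesian (πX.map (g ≫ i.inv)) (F.map n) :=
      (isStronglyCartesian_iff _ _ _).2 ⟨l1, hX'.2 _⟩
    have s2 : πX.IsStronglyCartesian (πX.map (g ≫ i.inv)) (g ≫ i.inv) :=
      (isStronglyCartesian_iff _ _ _).2 ⟨inferInstance, hX'.2 _⟩
    let φ' : F.obj y' ≅ x' := Functor.IsCartesian.domainUniqueUpToIso πX (πX.map (g ≫ i.inv))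
      (g ≫ i.inv) (F.map n)
    have h1 : φ'.hom ≫ g ≫ i.inv = F.map n := Functor.IsCartesian.fac πX (πX.map (g ≫ i.inv)) (g ≫ i.inv) (F.map n)
    let z' : CategoricalPullback F (𝟭 X) := ⟨y', x', φ'⟩
    let ψ : z' ⟶ z := ⟨n, g, by
      change F.map n ≫ i.hom = φ'.hom ≫ g
      rw [← h1]; simp⟩
    exact ⟨z', ψ, IsHomLift.map (CategoricalPullback.π₂ F (𝟭 X)) ψ⟩
  · intro z' z ψ z'' θ h e
    change z''.snd ⟶ z'.snd at h
    change h ≫ ψ.snd = θ.snd at e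
    let i : F.obj z.fst ≅ z.snd := z.iso
    let i' : F.obj z'.fst ≅ z'.snd := z'.iso
    let i'' : F.obj z''.fst ≅ z''.snd := z''.iso
    have w1 : F.map ψ.fst ≫ i.hom = i'.hom ≫ ψ.snd := ψ.w
    have w2 : F.map θ.fst ≫ i.hom = i''.hom ≫ θ.snd := θ.w
    have w3 : (i''.hom ≫ h ≫ i'.inv) ≫ F.map ψ.fst = F.map θ.fst := by
      rw [← cancel_mono i.hom]
      simp only [Category.assoc]
      rw [w1, w2, Iso.inv_hom_id_assoc, e]
    obtain ⟨χ, ⟨h1, h2⟩, h3⟩ := hY.2 ψ.fst θ.fst (πX.map (i''.hom ≫ h ≫ i'.inv)) (by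
      change πX.map _ ≫ πX.map (F.map ψ.fst) = πX.map (F.map θ.fst)
      rw [← πX.map_comp, w3])
    have w4 : F.map χ = i''.hom ≫ h ≫ i'.inv := by
      refine (hX'.2 (F.map ψ.fst) (F.map θ.fst) (πX.map (i''.hom ≫ h ≫ i'.inv)) ?_).unique
        ⟨h1, by rw [← F.map_comp, h2]⟩ ⟨rfl, w3⟩
      rw [← πX.map_comp, w3]
    refine ⟨⟨χ, h, ?_⟩, ⟨rfl, CategoricalPullback.hom_ext h2 e⟩, ?_⟩
    · change F.map χ ≫ i'.hom = i''.hom ≫ h
      rw [w4]; simp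
    · rintro χ' ⟨h4, h5⟩
      have h4' : χ'.snd = h := h4
      refine CategoricalPullback.hom_ext (h3 _ ⟨?_, congrArg (fun t => t.fst) h5⟩) h4'
      change πX.map (F.map χ'.fst) = _
      have w5 : F.map χ'.fst ≫ i'.hom = i''.hom ≫ χ'.snd := χ'.w
      rw [h4'] at w5
      rw [← Category.assoc, ← w5]
      simp

end K161.PlainPb
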