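import Groth.Agent.FibCat.K161.Fp2
import Groth.Prelude.Def_AlgSt
import Groth.Prelude.Def_W4c2modmodulilectNerve
import Mathlib.CategoryTheory.Comma.StructuredArrow.Basic
import Mathlib.CategoryTheory.Category.ULift
import Mathlib.CategoryTheory.Groupoid.Discrete

/-!
# Restriction of sections along functors with contractible comma categories
-/

set_option autoImplicit false
set_option backward.isDefEq.respectTransparency false

open CategoryTheory CategoryTheory.Limits FibCat W4c2modmodulilect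

universe w v₅ u₅ v₄ u₄ v₃ u₃ v₂ u₂ v₁ u₁ v u

namespace K161.Sections

open K161.Basic K161.Equiv K161.Fiberwise K161.Fp K161.Fp2

section Nerve

variable {X : Type u} [Category.{v} X]

/-- Functions constant along morphisms are constant. -/
theorem const_of_nerve {T : Type u₁} (h : HasContractibleNerve.{max w u₁, max w u₁} X) (s : X → T)
    (hs : ∀ {x y : X} (_ : x ⟶ y), s x = s y) (x y : X) : s x = s y := by
  let K : X ⥤ Discrete (ULift.{w} T) :=
    { obj := fun x => ⟨⟨s x⟩⟩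
      map := fun f => Discrete.eqToHom (congrArg ULift.up (hs f))
      map_id := fun x => Subsingleton.elim _ _
      map_comp := fun f g => Subsingleton.elim _ _ }
  have h1 := h.2 (Discrete (ULift.{w} T))
  obtain ⟨g, ⟨i⟩⟩ := h1.essSurj.mem_essImage K
  have h2 : ∀ x, g.as = ⟨s x⟩ := fun x => Discrete.eq_of_hom (i.hom.app x)
  exact congrArg ULift.down ((h2 x).symm.trans (h2 y))

/-- Functors to groupoids are isomorphic to constant functors. -/
theorem exists_const_of_nerve {G : Type u₁} [Category.{v₁} G] (hG : ∀ {a b : G} (f : a ⟶ b), IsIso f)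
    (h : HasContractibleNerve.{max w v₁ u₁, max w v₁ u₁} X) (K : X ⥤ G) :
    ∃ (g : G) (c : ∀ x, g ⟶ K.obj x), ∀ {x y : X} (f : x ⟶ y), c x ≫ K.map f = c y := by
  have hd : (AsSmall.down : AsSmall.{w} G ⥤ G).IsEquivalence := AsSmall.equiv.isEquivalence_inverse
  let _ : Groupoid.{max w v₁ u₁} (AsSmall.{w} G) :=
    Groupoid.ofIsIso (fun {a b} f => by
      have h1 : IsIso (AsSmall.down.map f) := hG _
      exact isIso_of_reflects_iso f (AsSmall.down (C := G)))
  have h1 := h.2 (AsSmall.{w} G)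
  obtain ⟨g, ⟨i⟩⟩ := h1.essSurj.mem_essImage (K ⋙ AsSmall.up)
  refine ⟨AsSmall.down.obj g, fun x => AsSmall.down.map (i.hom.app x), fun {x y} f => ?_⟩
  have h3 : ((Functor.const X).obj g).map f ≫ i.hom.app y = i.hom.app x ≫ AsSmall.up.map (K.map f) :=
    i.hom.naturality f
  have h2 : i.hom.app x ≫ AsSmall.up.map (K.map f) = i.hom.app y := by
    rw [← h3]
    exact Category.id_comp _
  exact congrArg (fun t => AsSmall.down.map t) h2

end Nerve

section FullyFaithful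

variable {C : Type u₁} [Category.{v₁} C] {D : Type u₂} [Category.{v₂} D] {F : Type u₃} [Category.{v₃} F]
    (φ : C ⥤ D) (p : F ⥤ D) (hp : IsFibGrpd p)

/-- connectedness of the comma categories (test sets in `Type w`), non-emptiness included -/
structure Conn (φ : C ⥤ D) : Prop where
  ne : ∀ Y, Nonempty (StructuredArrow Y φ)
  const : ∀ (Y : D) {T : Type w} (s : StructuredArrow Y φ → T)
    (_ : ∀ {x y : StructuredArrow Y φ} (_ : x ⟶ y), s x = s y) (x y : StructuredArrow Y φ), s x = s y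

variable {φ p}

lemma lift_iff {G : D ⥤ F} (hG : G ⋙ p = 𝟭 D) {Y Y' : D} (v : Y' ⟶ Y) : p.IsHomLift v (G.map v) := by
  refine IsHomLift.of_fac' p v (G.map v) (Functor.congr_obj hG Y') (Functor.congr_obj hG Y) ?_
  simpa using Functor.congr_hom hG v

include hp in
lemma psc {R S : D} (f : R ⟶ S) {a b : F}
    (φ : a ⟶ b) [hf : p.IsHomLift f φ] : p.IsStronglyCartesian f φ :=
  (isStronglyCartesian_iff _ _ _).2 ⟨hf, (sc_iff _ _).1 (hp.isStronglyCartesian φ)⟩

include hp in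
/-- Vertical transformations between sections are determined by, and extend from, the diagram. -/
theorem exists_unique_nat (hφ : Conn.{v₃} φ) (G G' : D ⥤ F) (hG : G ⋙ p = 𝟭 D) (hG' : G' ⋙ p = 𝟭 D)
    (α : ∀ X : C, G.obj (φ.obj X) ⟶ G'.obj (φ.obj X))
    (hα : ∀ X, p.IsHomLift (𝟙 (φ.obj X)) (α X))
    (nat : ∀ {X X' : C} (m : X ⟶ X'), G.map (φ.map m) ≫ α X' = α X ≫ G'.map (φ.map m)) :
    ∃ β : ∀ Y : D, G.obj Y ⟶ G'.obj Y, (∀ Y, p.IsHomLift (𝟙 Y) (β Y)) ∧
      (∀ {Y Y' : D} (v : Y' ⟶ Y), G.map v ≫ β Y = β Y' ≫ G'.map v) ∧ (∀ X, β (φ.obj X) = α X) := by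
  have key : ∀ (Y : D) (x : StructuredArrow Y φ), ∃ b : G.obj Y ⟶ G'.obj Y,
      p.IsHomLift (𝟙 Y) b ∧ b ≫ G'.map x.hom = G.map x.hom ≫ α x.right := by
    intro Y x
    have l1 := lift_iff hG' x.hom
    have l2 := lift_iff hG x.hom
    have l3 := hα x.right
    have s1 := psc hp x.hom (G'.map x.hom)
    obtain ⟨b, ⟨h1, h2⟩, -⟩ := Functor.IsStronglyCartesian.universal_property p x.hom (G'.map x.hom)
      (𝟙 Y) x.hom (Category.id_comp x.hom).symm (G.map x.hom ≫ α x.right)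
    exact ⟨b, h1, h2⟩
  choose b hb1 hb2 using key
  have hconst : ∀ (Y : D) (x y : StructuredArrow Y φ), b Y x = b Y y := by
    intro Y
    refine hφ.const Y (b Y) ?_
    intro x y f
    have l1 := lift_iff hG' y.hom
    have s1 := psc hp y.hom (G'.map y.hom)
    have l2 := hb1 Y x
    have l3 := hb1 Y y
    apply Functor.IsStronglyCartesian.ext p y.hom (G'.map y.hom) (𝟙 Y)
    have e1 : x.hom ≫ φ.map f.right = y.hom := StructuredArrow.w f
    rw [hb2 Y y, ← e1, G'.map_comp, ← Category.assoc, hb2 Y x, G.map_comp, Category.assoc, Category.assoc,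
      nat]
  let x₀ : ∀ Y, StructuredArrow Y φ := fun Y => (hφ.ne Y).some
  have hb : ∀ (Y : D) (x : StructuredArrow Y φ), b Y (x₀ Y) ≫ G'.map x.hom = G.map x.hom ≫ α x.right := by
    intro Y x
    rw [hconst Y (x₀ Y) x]
    exact hb2 Y x
  refine ⟨fun Y => b Y (x₀ Y), fun Y => hb1 _ _, ?_, ?_⟩
  · intro Y Y' v
    let x := x₀ Y
    have l1 := lift_iff hG' x.hom
    have s1 := psc hp x.hom (G'.map x.hom)
    have l2 := hb1 Y (x₀ Y)
    have l3 := hb1 Y' (x₀ Y')
    have l4 := lift_iff hG' v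
    have l5 := lift_iff hG v
    apply Functor.IsStronglyCartesian.ext p x.hom (G'.map x.hom) v
    have e1 := hb Y' (StructuredArrow.mk (v ≫ x.hom))
    have e2 := hb Y x
    change b Y' (x₀ Y') ≫ G'.map (v ≫ x.hom) = G.map (v ≫ x.hom) ≫ α x.right at e1
    rw [G'.map_comp, G.map_comp, Category.assoc] at e1
    rw [Category.assoc, Category.assoc, e2, e1]
  · intro X
    have e1 := hb (φ.obj X) (StructuredArrow.mk (𝟙 (φ.obj X)))
    change b (φ.obj X) (x₀ (φ.obj X)) ≫ G'.map (𝟙 (φ.obj X)) = G.map (𝟙 (φ.obj X)) ≫ α X at e1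
    rw [G'.map_id, G.map_id] at e1
    simpa using e1

include hp in
theorem nat_ext (hφ : ∀ Y, Nonempty (StructuredArrow Y φ)) (G G' : D ⥤ F)
    (hG' : G' ⋙ p = 𝟭 D) (β β' : ∀ Y : D, G.obj Y ⟶ G'.obj Y) (h1 : ∀ Y, p.IsHomLift (𝟙 Y) (β Y))
    (h1' : ∀ Y, p.IsHomLift (𝟙 Y) (β' Y))
    (h2 : ∀ {Y Y' : D} (v : Y' ⟶ Y), G.map v ≫ β Y = β Y' ≫ G'.map v)
    (h2' : ∀ {Y Y' : D} (v : Y' ⟶ Y), G.map v ≫ β' Y = β' Y' ≫ G'.map v)
    (h : ∀ X, β (φ.obj X) = β' (φ.obj X)) (Y : D) : β Y = β' Y := by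
  obtain ⟨x⟩ := hφ Y
  have l1 := lift_iff hG' x.hom
  have s1 := psc hp x.hom (G'.map x.hom)
  have l2 := h1 Y
  have l3 := h1' Y
  apply Functor.IsStronglyCartesian.ext p x.hom (G'.map x.hom) (𝟙 Y)
  rw [← h2, ← h2', h]

end FullyFaithful

section EssSurj

variable {C : Type u₁} [Category.{v₁} C] {D : Type u₂} [Category.{v₂} D] {F : Type u₃} [Category.{v₃} F]
    {φ : C ⥤ D} {p : F ⥤ D} (hp : IsFibGrpd p)

include hp

lemma fiber_isIso {Y : D} {a b : p.Fiber Y} (f : a ⟶ b) : IsIso f := by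
  have h1 : p.IsHomLift (𝟙 Y) f.1 := f.2
  have h2 := psc hp (𝟙 Y) f.1
  have h3 : IsIso f.1 := Functor.IsStronglyCartesian.isIso_of_base_isIso p (𝟙 Y) f.1
  have h4 : p.IsHomLift (𝟙 Y) (inv f.1) := inferInstance
  exact ⟨⟨⟨inv f.1, h4⟩, Subtype.ext (IsIso.hom_inv_id f.1), Subtype.ext (IsIso.inv_hom_id f.1)⟩⟩

/-- The universal cone over a diagram of sections. -/
theorem exists_cone (hφ : ∀ Y : D, HasContractibleNerve.{max w v₃ u₃, max w v₃ u₃} (StructuredArrow Y φ))
    (H : C ⥤ F) (hH : H ⋙ p = φ) (Y : D) : ∃ (g : F) (d : ∀ x : StructuredArrow Y φ, g ⟶ H.obj x.right),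
      (∀ x, p.IsHomLift x.hom (d x)) ∧ ∀ {x y : StructuredArrow Y φ} (f : x ⟶ y),
        d x ≫ H.map f.right = d y := by
  have hobj : ∀ X, p.obj (H.obj X) = φ.obj X := fun X => Functor.congr_obj hH X
  have hmap : ∀ {X X' : C} (m : X ⟶ X'), p.IsHomLift (φ.map m) (H.map m) := fun {X X'} m =>
    IsHomLift.of_fac' p _ _ (hobj X) (hobj X') (Functor.congr_hom hH m)
  have hlift : ∀ x : StructuredArrow Y φ, ∃ (a : F) (c : a ⟶ H.obj x.right), p.IsHomLift x.hom c := by
    intro x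
    obtain ⟨a, c, hc⟩ := hp.exists_lift (x.hom ≫ eqToHom (hobj x.right).symm)
    exact ⟨a, c, by simpa using hc⟩
  choose a c hc using hlift
  have ha : ∀ x, p.obj (a x) = Y := fun x => IsHomLift.domain_eq p x.hom (c x)
  have hmor : ∀ {x y : StructuredArrow Y φ} (f : x ⟶ y), ∃ m : a x ⟶ a y, p.IsHomLift (𝟙 Y) m ∧
      m ≫ c y = c x ≫ H.map f.right := by
    intro x y f
    have s1 := psc hp y.hom (c y)
    have e1 : x.hom ≫ φ.map f.right = y.hom := StructuredArrow.w f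
    have l1 := hmap f.right
    have l2 := hc x
    have l3 : p.IsHomLift y.hom (c x ≫ H.map f.right) := by rw [← e1]; infer_instance
    obtain ⟨m, ⟨h1, h2⟩, -⟩ := Functor.IsStronglyCartesian.universal_property p y.hom (c y)
      (𝟙 Y) y.hom (Category.id_comp y.hom).symm (c x ≫ H.map f.right)
    exact ⟨m, h1, h2⟩
  choose m hm1 hm2 using @hmor
  have huniq : ∀ {x y : StructuredArrow Y φ} (n n' : a x ⟶ a y), p.IsHomLift (𝟙 Y) n →
      p.IsHomLift (𝟙 Y) n' → n ≫ c y = n' ≫ c y → n = n' := by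
    intro x y n n' h1 h2 h3
    have s1 := psc hp y.hom (c y)
    exact Functor.IsStronglyCartesian.ext p y.hom (c y) (𝟙 Y) h3
  let K : StructuredArrow Y φ ⥤ p.Fiber Y :=
    { obj := fun x => ⟨a x, ha x⟩
      map := fun {x y} f => ⟨m f, hm1 f⟩
      map_id := fun x => Subtype.ext (huniq _ _ (hm1 _) (IsHomLift.id (ha x)) (by
        rw [hm2]
        change c x ≫ H.map (𝟙 x.right) = 𝟙 (a x) ≫ c x
        simp))
      map_comp := fun {x y z} f g => Subtype.ext (huniq _ _ (hm1 _) (by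
        change p.IsHomLift (𝟙 Y) (m f ≫ m g)
        have := hm1 f
        have := hm1 g
        infer_instance) (by
        rw [hm2]
        change c x ≫ H.map (f.right ≫ g.right) = (m f ≫ m g) ≫ c z
        rw [Category.assoc, hm2, ← Category.assoc, hm2, Category.assoc, H.map_comp])) }
  obtain ⟨g, d, hd⟩ := exists_const_of_nerve.{w} (fun f => fiber_isIso hp f) (hφ Y) K
  refine ⟨g.1, fun x => (d x).1 ≫ c x, fun x => ?_, fun {x y} f => ?_⟩
  · have := hc x
    have : p.IsHomLift (𝟙 Y) (d x).1 := (d x).2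
    infer_instance
  · have h1 := congrArg Subtype.val (hd f)
    change (d x).1 ≫ m f = (d y).1 at h1
    rw [Category.assoc, ← hm2, ← Category.assoc, h1]

theorem exists_section
    (hφ : ∀ Y : D, HasContractibleNerve.{max w v₃ u₃, max w v₃ u₃} (StructuredArrow Y φ))
    (hφ' : Conn.{v₃} φ)
    (H : C ⥤ F) (hH : H ⋙ p = φ) : ∃ (G : D ⥤ F) (_ : G ⋙ p = 𝟭 D) (i : ∀ X, G.obj (φ.obj X) ⟶ H.obj X),
      (∀ X, p.IsHomLift (𝟙 (φ.obj X)) (i X)) ∧
      ∀ {X X' : C} (m : X ⟶ X'), G.map (φ.map m) ≫ i X' = i X ≫ H.map m := by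
  choose g d hd1 hd2 using exists_cone.{w} hp hφ H hH
  have hobj : ∀ X, p.obj (H.obj X) = φ.obj X := fun X => Functor.congr_obj hH X
  have hmap : ∀ {X X' : C} (m : X ⟶ X'), p.IsHomLift (φ.map m) (H.map m) := fun {X X'} m =>
    IsHomLift.of_fac' p _ _ (hobj X) (hobj X') (Functor.congr_hom hH m)
  let x₀ : ∀ Y, StructuredArrow Y φ := fun Y => (hφ'.ne Y).some
  have hg : ∀ Y, p.obj (g Y) = Y := fun Y => IsHomLift.domain_eq p (x₀ Y).hom (d Y (x₀ Y))
  let pre : ∀ {Y Y' : D} (_ : Y' ⟶ Y) (_ : StructuredArrow Y φ), StructuredArrow Y' φ :=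
    fun v x => StructuredArrow.mk (v ≫ x.hom)
  -- the transition morphisms
  have key : ∀ {Y Y' : D} (v : Y' ⟶ Y) (x : StructuredArrow Y φ), ∃ b : g Y' ⟶ g Y,
      p.IsHomLift v b ∧ b ≫ d Y x = d Y' (pre v x) := by
    intro Y Y' v x
    have l1 := hd1 Y x
    have s1 := psc hp x.hom (d Y x)
    have l2 : p.IsHomLift (v ≫ x.hom) (d Y' (pre v x)) := hd1 Y' (pre v x)
    obtain ⟨b, ⟨h1, h2⟩, -⟩ := Functor.IsStronglyCartesian.universal_property p x.hom (d Y x)
      v (v ≫ x.hom) rfl (d Y' (pre v x))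
    exact ⟨b, h1, h2⟩
  choose b hb1 hb2 using @key
  have huniq : ∀ {Y Y' : D} (v : Y' ⟶ Y) (x : StructuredArrow Y φ) (n n' : g Y' ⟶ g Y),
      p.IsHomLift v n → p.IsHomLift v n' → n ≫ d Y x = n' ≫ d Y x → n = n' := by
    intro Y Y' v x n n' h1 h2 h3
    have l1 := hd1 Y x
    have s1 := psc hp x.hom (d Y x)
    exact Functor.IsStronglyCartesian.ext p x.hom (d Y x) v h3
  have hconst : ∀ {Y Y' : D} (v : Y' ⟶ Y) (x y : StructuredArrow Y φ), b v x = b v y := by
    intro Y Y' v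
    refine hφ'.const Y (b v) ?_
    intro x y f
    apply huniq v y _ _ (hb1 v x) (hb1 v y)
    rw [hb2, ← hd2 Y f, ← Category.assoc, hb2]
    exact hd2 Y' (x := pre v x) (y := pre v y) (StructuredArrow.homMk f.right (by
      change (v ≫ x.hom) ≫ φ.map f.right = v ≫ y.hom
      rw [Category.assoc, StructuredArrow.w]))
  have hb : ∀ {Y Y' : D} (v : Y' ⟶ Y) (x : StructuredArrow Y φ), b v (x₀ Y) ≫ d Y x = d Y' (pre v x) := by
    intro Y Y' v x
    rw [hconst v (x₀ Y) x, hb2]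
  let G : D ⥤ F :=
    { obj := g
      map := fun {Y' Y} v => b v (x₀ Y)
      map_id := fun Y => huniq (𝟙 Y) (x₀ Y) _ _ (hb1 _ _) (IsHomLift.id (hg Y)) (by
        rw [hb2, Category.id_comp]
        congr 1
        change StructuredArrow.mk (𝟙 Y ≫ (x₀ Y).hom) = _
        rw [Category.id_comp]
        rfl)
      map_comp := fun {Y'' Y' Y} w v => huniq (w ≫ v) (x₀ Y) _ _ (hb1 _ _) (by
          have := hb1 w (x₀ Y')
          have := hb1 v (x₀ Y)
          infer_instance) (by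
        rw [hb2, Category.assoc, hb2, hb]
        congr 1
        change StructuredArrow.mk ((w ≫ v) ≫ (x₀ Y).hom) = StructuredArrow.mk (w ≫ v ≫ (x₀ Y).hom)
        rw [Category.assoc]) }
  have hGp : G ⋙ p = 𝟭 D := CategoryTheory.Functor.ext hg (fun Y' Y v => by
    have := hb1 v (x₀ Y)
    exact IsHomLift.fac' p v (b v (x₀ Y)))
  refine ⟨G, hGp, fun X => d (φ.obj X) (StructuredArrow.mk (𝟙 (φ.obj X))),
    fun X => hd1 (φ.obj X) (StructuredArrow.mk (𝟙 (φ.obj X))), ?_⟩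
  intro X X' m
  change b (φ.map m) (x₀ (φ.obj X')) ≫ d (φ.obj X') (StructuredArrow.mk (𝟙 (φ.obj X'))) = _
  rw [hb]
  exact (hd2 (φ.obj X) (x := StructuredArrow.mk (𝟙 (φ.obj X))) (y := pre (φ.map m)
    (StructuredArrow.mk (𝟙 (φ.obj X')))) (StructuredArrow.homMk m (by
      change 𝟙 (φ.obj X) ≫ φ.map m = φ.map m ≫ 𝟙 (φ.obj X')
      simp))).symm

end EssSurj

section Main

variable {C : Type u₁} [Category.{v₁} C] {D : Type u₂} [Category.{v₂} D] {F : Type u₃} [Category.{v₃} F]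
    (φ : C ⥤ D) (p : F ⥤ D) (hp : IsFibGrpd p)

include hp

theorem restr_isEquivalence (hφ' : Conn.{v₃} φ)
    (hφ : ∀ Y : D, HasContractibleNerve.{max w v₃ u₃, max w v₃ u₃} (StructuredArrow Y φ)) :
    (Stk.restr (FibCat.toSelf (BasedCategory.ofFunctor φ)) (BasedCategory.ofFunctor p)).IsEquivalence where
  faithful := ⟨by
    intro G G' α β h
    have h1 : ∀ X : C, α.toNatTrans.app (φ.obj X) = β.toNatTrans.app (φ.obj X) := fun X =>
      congrArg (fun t => t.toNatTrans.app X) h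
    apply BasedNatTrans.homCategory.ext
    apply NatTrans.ext
    funext Y
    exact nat_ext hp hφ'.ne G.toFunctor G'.toFunctor G'.w α.toNatTrans.app β.toNatTrans.app
      α.isHomLift' β.isHomLift' (fun v => α.toNatTrans.naturality v)
      (fun v => β.toNatTrans.naturality v) h1 Y⟩
  full := ⟨by
    intro G G' α
    obtain ⟨β, h1, h2, h3⟩ := exists_unique_nat hp hφ' G.toFunctor G'.toFunctor G.w G'.w
      α.toNatTrans.app α.isHomLift' (fun m => α.toNatTrans.naturality m)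
    refine ⟨{ app := β, naturality := fun _ _ v => h2 v, isHomLift' := h1 }, ?_⟩
    apply BasedNatTrans.homCategory.ext
    apply NatTrans.ext
    funext X
    exact h3 X⟩
  essSurj := ⟨by
    intro H
    obtain ⟨G, hG, i, hi1, hi2⟩ := exists_section.{w} hp hφ hφ' H.toFunctor H.w
    have hiso : ∀ X, IsIso (i X) := fun X => by
      have l1 := hi1 X
      have s1 := psc hp (𝟙 (φ.obj X)) (i X)
      exact Functor.IsStronglyCartesian.isIso_of_base_isIso p (𝟙 (φ.obj X)) (i X)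
    let G' : selfOver D ⥤ᵇ BasedCategory.ofFunctor p := ⟨G, hG⟩
    refine ⟨G', ⟨mk2 (F := BasedFunctor.comp (toSelf (BasedCategory.ofFunctor φ)) G') (G := H)
      (fun X => @asIso _ _ _ _ (i X) (hiso X)) (fun m => hi2 m) hi1⟩⟩⟩

end Main

end K161.Sections
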