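import Groth.Agent.FibCat.K161.Fp2
import Mathlib.CategoryTheory.Limits.Shapes.Pullback.HasPullback

/-!
# Functors between slices
-/

set_option autoImplicit false
set_option backward.isDefEq.respectTransparency false

open CategoryTheory CategoryTheory.Limits FibCat

universe v₃ u₃ v₂ u₂ v u

namespace K161.Slice

open K161.Basic K161.Equiv K161.Fiberwise K161.Fp K161.Fp2

variable {C : Type u} [Category.{v} C] {X Y U : C}

/-- `C/X ⟶ C/Y` as a functor over `C`. -/
abbrev overMap (f : X ⟶ Y) : overCat X ⥤ᵇ overCat Y := ⟨Over.map f, Over.mapForget_eq f⟩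

variable (G : overCat U ⥤ᵇ overCat Y)

/-- underlying functor -/
abbrev Gf : Over U ⥤ Over Y := G.toFunctor

lemma left_eq (w : Over U) : ((Gf G).obj w).left = w.left := G.w_obj w

lemma map_left_eq {w w' : Over U} (a : w ⟶ w') :
    ((Gf G).map a).left = eqToHom (left_eq G w) ≫ a.left ≫ eqToHom (left_eq G w').symm :=
  p_map_map G a

/-- the morphism classified by a functor over `C` between slices -/
def cl : U ⟶ Y := eqToHom (left_eq G (Over.mk (𝟙 U))).symm ≫ ((Gf G).obj (Over.mk (𝟙 U))).hom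

lemma hom_eq (w : Over U) : ((Gf G).obj w).hom = eqToHom (left_eq G w) ≫ w.hom ≫ cl G := by
  let t : w ⟶ Over.mk (𝟙 U) := Over.homMk w.hom
  rw [← Over.w ((Gf G).map t), map_left_eq]
  simp [cl, t]

theorem isRepresentable1_overMap [HasPullbacks C] (f : X ⟶ Y) : IsRepresentable1 (overMap f) := by
  intro U G
  let P := pullback (cl G) f
  let p₁ : Over U := Over.mk (pullback.fst (cl G) f)
  let p₂ : Over X := Over.mk (pullback.snd (cl G) f)
  let I : (Gf G).obj p₁ ≅ (Over.map f).obj p₂ := Over.isoMk (eqToIso (left_eq G p₁)) (by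
    rw [hom_eq]
    change eqToHom (left_eq G p₁) ≫ pullback.snd (cl G) f ≫ f =
      eqToHom (left_eq G p₁) ≫ pullback.fst (cl G) f ≫ cl G
    rw [pullback.condition])
  have hI : (overCat Y).p.IsHomLift (𝟙 P) I.hom := by
    refine IsHomLift.of_fac' (Over.forget Y) _ _ (left_eq G p₁) rfl ?_
    simp [I]
  let ξ : (fp G (overMap f)).obj := fpMk p₁ p₂ I hI
  refine isRepresentable_of_terminal (isFibGrpd_fp (isFibGrpd_overCat U) (isFibGrpd_overCat X)
    (isFibGrpd_overCat Y)) ξ ?_
  rintro ⟨⟨w, x, i⟩, hi⟩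
  change Over U at w
  change Over X at x
  change (Gf G).obj w ≅ (Over.map f).obj x at i
  obtain ⟨j, hj⟩ : ∃ j : ((Gf G).obj w).left ⟶ x.left, j = i.hom.left := ⟨_, rfl⟩
  obtain ⟨k, hk⟩ : ∃ k : x.left ⟶ ((Gf G).obj w).left, k = i.inv.left := ⟨_, rfl⟩
  have hkj : k ≫ j = 𝟙 _ := by
    rw [hj, hk, ← Over.comp_left, i.inv_hom_id]; rfl
  have hjk : j ≫ k = 𝟙 _ := by
    rw [hj, hk, ← Over.comp_left, i.hom_inv_id]; rfl
  have hw : j ≫ x.hom ≫ f = eqToHom (left_eq G w) ≫ w.hom ≫ cl G := by
    rw [← hom_eq, hj]; exact Over.w i.hom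
  let a : w ⟶ p₁ := Over.homMk (pullback.lift w.hom (eqToHom (left_eq G w).symm ≫ j ≫ x.hom)
    (by rw [Category.assoc, Category.assoc, hw]; simp)) (pullback.lift_fst _ _ _)
  let b : x ⟶ p₂ := Over.homMk (pullback.lift (k ≫ eqToHom (left_eq G w) ≫ w.hom) x.hom
    (by rw [Category.assoc, Category.assoc, ← hw, reassoc_of% hkj]))
    (pullback.lift_snd _ _ _)
  have ha1 : a.left ≫ pullback.fst (cl G) f = w.hom := pullback.lift_fst _ _ _
  have ha2 : a.left ≫ pullback.snd (cl G) f = eqToHom (left_eq G w).symm ≫ j ≫ x.hom :=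
    pullback.lift_snd _ _ _
  have hb1 : b.left ≫ pullback.fst (cl G) f = k ≫ eqToHom (left_eq G w) ≫ w.hom :=
    pullback.lift_fst _ _ _
  have hb2 : b.left ≫ pullback.snd (cl G) f = x.hom := pullback.lift_snd _ _ _
  have hI' : I.hom.left = eqToHom (left_eq G p₁) := rfl
  -- morphisms to `ξ` in terms of left parts
  have key : ∀ (a' : w ⟶ p₁) (b' : x ⟶ p₂), (Gf G).map a' ≫ I.hom = i.hom ≫ (Over.map f).map b' ↔
      eqToHom (left_eq G w) ≫ a'.left = j ≫ b'.left := by
    intro a' b'
    have e1 : ((Gf G).map a' ≫ I.hom).left = eqToHom (left_eq G w) ≫ a'.left := by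
      rw [Over.comp_left, map_left_eq, hI']
      change (eqToHom (left_eq G w) ≫ a'.left ≫ eqToHom (left_eq G p₁).symm) ≫
        eqToHom (left_eq G p₁) = _
      rw [Category.assoc, Category.assoc, eqToHom_trans, eqToHom_refl, Category.comp_id]
    have e2 : (i.hom ≫ (Over.map f).map b').left = j ≫ b'.left := by
      rw [Over.comp_left, hj]; rfl
    rw [← e1, ← e2]
    exact ⟨fun h => congrArg (fun t => t.left) h, fun h => Over.OverMorphism.ext h⟩
  refine ⟨⟨⟨fpHom a b ((key a b).2 ?_)⟩, ?_⟩⟩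
  · apply pullback.hom_ext
    · rw [Category.assoc, Category.assoc, ha1, hb1, reassoc_of% hjk]
    · rw [Category.assoc, Category.assoc, ha2, hb2]
      simp
  intro c
  have c0 := (key c.hom.fst c.hom.snd).1 c.hom.w
  have c1 : c.hom.fst.left ≫ pullback.fst (cl G) f = w.hom := Over.w c.hom.fst
  have c2 : c.hom.snd.left ≫ pullback.snd (cl G) f = x.hom := Over.w c.hom.snd
  have ca : c.hom.fst = a := by
    apply Over.OverMorphism.ext
    apply pullback.hom_ext
    · rw [ha1]; exact c1
    · rw [ha2]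
      have := congrArg (fun t => t ≫ pullback.snd (cl G) f) c0
      simp only [Category.assoc] at this
      rw [← c2, ← this]
      simp
  have cb : c.hom.snd = b := by
    apply Over.OverMorphism.ext
    apply pullback.hom_ext
    · rw [hb1]
      have := congrArg (fun t => k ≫ t ≫ pullback.fst (cl G) f) c0
      simp only [Category.assoc] at this
      rw [reassoc_of% hkj, c1] at this
      exact this.symm
    · rw [hb2]; exact c2
  exact fp_ext ca cb

end K161.Slice
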