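import Groth.Prelude.Def_FibClv
import Groth.Agent.FibCat.K161.Equiv
import Mathlib.CategoryTheory.Bicategory.Grothendieck
import Mathlib.CategoryTheory.Bicategory.Functor.LocallyDiscrete
import Mathlib.CategoryTheory.Category.Cat

/-!
# Split fibred categories and strict functors
-/

set_option autoImplicit false
set_option backward.isDefEq.respectTransparency false

open CategoryTheory CategoryTheory.Functor FibCat Opposite

universe v₃ u₃ v₂ u₂ v₁ u₁

namespace K161.Split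

open K161.Basic

section Strict

variable {A : Type u₁} [Category.{v₁} A] {B : Type u₂} [Category.{v₂} B]

/-- A fully faithful functor with a strict inverse on objects has a strict inverse. -/
theorem exists_strict_inverse (Ψ : A ⥤ B) [Ψ.Full] [Ψ.Faithful] (s : B → A) (h1 : ∀ b, Ψ.obj (s b) = b)
    (h2 : ∀ a, s (Ψ.obj a) = a) : ∃ Φ : B ⥤ A, Φ ⋙ Ψ = 𝟭 B ∧ Ψ ⋙ Φ = 𝟭 A := by
  let Φ : B ⥤ A :=
    { obj := s
      map := fun {b b'} f => Ψ.preimage (eqToHom (h1 b) ≫ f ≫ eqToHom (h1 b').symm)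
      map_id := fun b => by
        apply Ψ.map_injective
        simp
      map_comp := fun f g => by
        apply Ψ.map_injective
        simp }
  refine ⟨Φ, Functor.ext h1 (fun b b' f => ?_), Functor.ext h2 (fun a a' f => ?_)⟩
  · change Ψ.map (Ψ.preimage _) = _
    rw [Ψ.map_preimage]
    rfl
  · apply Ψ.map_injective
    change Ψ.map (Ψ.preimage _) = Ψ.map (eqToHom _ ≫ f ≫ eqToHom _)
    rw [Ψ.map_preimage]
    simp [eqToHom_map]

end Strict

section CoGr

variable {𝒮 : Type u₁} [Category.{v₁} 𝒮] (F : 𝒮ᵒᵖ ⥤ Cat.{v₂, u₂})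

open Pseudofunctor

variable {F}

lemma id_fiber (X : CoGrothendieck F.toPseudofunctor') : (𝟙 X : X ⟶ X).fiber = eqToHom (by
    have h : F.map (𝟙 (op X.base)) = 𝟙 _ := F.map_id _
    exact (congrArg (fun (t : F.obj (op X.base) ⟶ F.obj (op X.base)) => t.toFunctor.obj X.fiber) h).symm) := by
  rw [CoGrothendieck.categoryStruct_id_fiber]
  simp [Functor.toPseudofunctor'_mapId]

lemma comp_fiber {X Y Z : CoGrothendieck F.toPseudofunctor'} (f : X ⟶ Y) (g : Y ⟶ Z) :
    (f ≫ g).fiber = f.fiber ≫ (F.map f.base.op).toFunctor.map g.fiber ≫ eqToHom (by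
      have h : F.map (g.base.op ≫ f.base.op) = F.map g.base.op ≫ F.map f.base.op := F.map_comp _ _
      exact (congrArg (fun t => t.toFunctor.obj Z.fiber) h).symm) := by
  rw [CoGrothendieck.categoryStruct_comp_fiber]
  simp [Functor.toPseudofunctor'_mapComp]
  rfl

end CoGr

section ToStrict

variable {𝒮 : Type u₁} [Category.{v₁} 𝒮] {𝒳 : Type u₂} [Category.{v₂} 𝒳] {p : 𝒳 ⥤ 𝒮}
  {K : Cleavage p} (hK : K.IsSplitting)

include hK

theorem inverseImage_id (S : 𝒮) : K.inverseImage (𝟙 S) = 𝟭 (p.Fiber S) := by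
  have hobj : ∀ a, (K.inverseImage (𝟙 S)).obj a = a := fun a => Subtype.ext (hK.1 a.2).choose
  refine Functor.ext hobj (fun a b φ => ?_)
  apply Fiber.hom_ext
  obtain ⟨ha, ha'⟩ := hK.1 a.2
  obtain ⟨hb, hb'⟩ := hK.1 b.2
  have h := IsCartesian.fac p (𝟙 S) (K.lift b.2 (𝟙 S)) (K.lift a.2 (𝟙 S) ≫ Fiber.fiberInclusion.map φ)
  have hm : Mono (K.lift b.2 (𝟙 S)) := by rw [hb']; infer_instance
  rw [Functor.map_comp, Functor.map_comp, eqToHom_map, eqToHom_map, Cleavage.inverseImage_map]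
  rw [← cancel_mono (K.lift b.2 (𝟙 S))]
  refine h.trans ?_
  rw [ha', hb']
  simp

theorem inverseImage_comp {R S T : 𝒮} (f : S ⟶ T) (g : R ⟶ S) :
    K.inverseImage (g ≫ f) = K.inverseImage f ⋙ K.inverseImage g := by
  have hobj : ∀ a, (K.inverseImage (g ≫ f)).obj a = (K.inverseImage f ⋙ K.inverseImage g).obj a :=
    fun a => Subtype.ext (hK.2 f g a.2).choose.symm
  refine Functor.ext hobj (fun a b φ => ?_)
  apply Fiber.hom_ext
  obtain ⟨ha, ha'⟩ := hK.2 f g a.2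
  obtain ⟨hb, hb'⟩ := hK.2 f g b.2
  apply IsCartesian.ext p (g ≫ f) (K.lift b.2 (g ≫ f))
  rw [Functor.map_comp, Functor.map_comp, eqToHom_map, eqToHom_map, Cleavage.inverseImage_map,
    IsCartesian.fac]
  have e1 : K.lift b.2 (g ≫ f) = eqToHom hb.symm ≫ K.lift (K.obj_proj b.2 f) g ≫ K.lift b.2 f := by
    rw [hb']; simp
  have e2 : K.lift a.2 (g ≫ f) = eqToHom ha.symm ≫ K.lift (K.obj_proj a.2 f) g ≫ K.lift a.2 f := by
    rw [ha']; simp
  have e3 : Fiber.fiberInclusion.map ((K.inverseImage f ⋙ K.inverseImage g).map φ) ≫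
      K.lift (K.obj_proj b.2 f) g = K.lift (K.obj_proj a.2 f) g ≫
        Fiber.fiberInclusion.map ((K.inverseImage f).map φ) :=
    IsCartesian.fac p g (K.lift (K.obj_proj b.2 f) g) _
  have e4 : Fiber.fiberInclusion.map ((K.inverseImage f).map φ) ≫ K.lift b.2 f =
      K.lift a.2 f ≫ Fiber.fiberInclusion.map φ := IsCartesian.fac p f (K.lift b.2 f) _
  rw [e1, e2]
  obtain ⟨M, hM⟩ : ∃ M : K.obj (K.obj_proj a.2 f) g ⟶ K.obj (K.obj_proj b.2 f) g,
    M = Fiber.fiberInclusion.map ((K.inverseImage f ⋙ K.inverseImage g).map φ) := ⟨_, rfl⟩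
  obtain ⟨N, hN⟩ : ∃ N : K.obj a.2 f ⟶ K.obj b.2 f,
    N = Fiber.fiberInclusion.map ((K.inverseImage f).map φ) := ⟨_, rfl⟩
  obtain ⟨P, hP⟩ : ∃ P : a.1 ⟶ b.1, P = Fiber.fiberInclusion.map φ := ⟨_, rfl⟩
  rw [← hM, ← hN] at e3
  rw [← hN, ← hP] at e4
  rw [← hM, ← hP]
  change M ≫ K.lift (K.obj_proj b.2 f) g = K.lift (K.obj_proj a.2 f) g ≫ N at e3
  have h1 : K.obj (K.obj_proj a.2 f) g = K.obj a.2 (g ≫ f) := ha
  change (eqToHom ha.symm ≫ K.lift (K.obj_proj a.2 f) g ≫ K.lift a.2 f) ≫ P =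
    (eqToHom ha.symm ≫ M ≫ eqToHom hb) ≫ eqToHom hb.symm ≫ K.lift (K.obj_proj b.2 f) g ≫ K.lift b.2 f
  simp only [Category.assoc, eqToHom_trans_assoc, eqToHom_refl, Category.id_comp]
  rw [reassoc_of% e3, e4]

/-- The strict functor of inverse images. -/
noncomputable def strictF : 𝒮ᵒᵖ ⥤ Cat.{v₂, u₂} where
  obj S := Cat.of (p.Fiber S.unop)
  map f := (K.inverseImage f.unop).toCatHom
  map_id _ := Cat.ext (inverseImage_id hK _)
  map_comp _ _ := Cat.ext (inverseImage_comp hK _ _)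

omit hK in
/-- the object of the fibre underlying an object of the total category -/
abbrev fo {hK : K.IsSplitting} (X : Pseudofunctor.CoGrothendieck (strictF hK).toPseudofunctor') :
    p.Fiber X.base := X.fiber

omit hK in
/-- the vertical part of a morphism -/
abbrev fm {hK : K.IsSplitting} {X Y : Pseudofunctor.CoGrothendieck (strictF hK).toPseudofunctor'}
    (f : X ⟶ Y) : fo X ⟶ (K.inverseImage f.base).obj (fo Y) := f.fiber

omit hK in
lemma incl_eqToHom {S : 𝒮} {a b : p.Fiber S} (h : a = b) :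
    (eqToHom h : a ⟶ b).1 = eqToHom (congrArg Subtype.val h) := by
  subst h; rfl

omit hK in
lemma inverseImage_map_fac {R S : 𝒮} (f : R ⟶ S) {a b : p.Fiber S} (φ : a ⟶ b) :
    ((K.inverseImage f).map φ).1 ≫ K.lift b.2 f = K.lift a.2 f ≫ φ.1 :=
  IsCartesian.fac p f (K.lift b.2 f) _

/-- the comparison functor from the total category of the strict functor -/
noncomputable def psi : Pseudofunctor.CoGrothendieck (strictF hK).toPseudofunctor' ⥤ 𝒳 where
  obj X := (fo X).1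
  map {X Y} f := (fm f).1 ≫ K.lift (fo Y).2 f.base
  map_id X := by
    have e0 : (K.inverseImage (𝟙 X.base)).obj (fo X) = fo X :=
      Functor.congr_obj (inverseImage_id hK X.base) (fo X)
    have h1 : (fm (𝟙 X)) = eqToHom e0.symm := id_fiber X
    have h2 : (fm (𝟙 X)).1 = eqToHom (congrArg Subtype.val e0.symm) := by
      rw [h1]; exact incl_eqToHom _
    obtain ⟨h3, h4⟩ := hK.1 (fo X).2
    change (fm (𝟙 X)).1 ≫ K.lift (fo X).2 (𝟙 X.base) = 𝟙 (fo X).1
    rw [h2, h4]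
    simp
  map_comp {X Y Z} f g := by
    have e0 : (K.inverseImage f.base).obj ((K.inverseImage g.base).obj (fo Z)) =
        (K.inverseImage (f.base ≫ g.base)).obj (fo Z) :=
      (Functor.congr_obj (inverseImage_comp hK g.base f.base) (fo Z)).symm
    have h1 : (fm (f ≫ g)) = fm f ≫ (K.inverseImage f.base).map (fm g) ≫ eqToHom e0 := comp_fiber f g
    have h2 : (fm (f ≫ g)).1 = (fm f).1 ≫ ((K.inverseImage f.base).map (fm g)).1 ≫
        eqToHom (congrArg Subtype.val e0) := by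
      rw [h1, ← incl_eqToHom e0]; rfl
    obtain ⟨h3, h4⟩ := hK.2 g.base f.base (fo Z).2
    change (fm (f ≫ g)).1 ≫ K.lift (fo Z).2 (f.base ≫ g.base) =
      ((fm f).1 ≫ K.lift (fo Y).2 f.base) ≫ (fm g).1 ≫ K.lift (fo Z).2 g.base
    have h5 := inverseImage_map_fac (K := K) f.base (fm g)
    rw [h2, Category.assoc, Category.assoc, Category.assoc]
    have h6 : eqToHom (congrArg Subtype.val e0) ≫ K.lift (fo Z).2 (f.base ≫ g.base) =
      K.lift (K.obj_proj (fo Z).2 g.base) f.base ≫ K.lift (fo Z).2 g.base := h4.symm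
    rw [h6]
    have h7 : ((K.inverseImage f.base).map (fm g)).1 ≫ K.lift (K.obj_proj (fo Z).2 g.base) f.base =
      K.lift (fo Y).2 f.base ≫ (fm g).1 := h5
    rw [reassoc_of% h7]

lemma psi_lift {X Y : Pseudofunctor.CoGrothendieck (strictF hK).toPseudofunctor'} (f : X ⟶ Y) :
    p.IsHomLift f.base ((psi hK).map f) := by
  have h1 : p.IsHomLift (𝟙 X.base) (fm f).1 := (fm f).2
  have h2 : p.IsHomLift f.base (K.lift (fo Y).2 f.base) := inferInstance
  exact (inferInstance : p.IsHomLift f.base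
    (CategoryStruct.comp (X := (fo X).1) (Y := K.obj (fo Y).2 f.base) (fm f).1 (K.lift (fo Y).2 f.base)))

theorem psi_comp : psi hK ⋙ p = Pseudofunctor.CoGrothendieck.forget (strictF hK).toPseudofunctor' :=
  Functor.ext (fun X => (fo X).2) (fun X Y f => by
    have := psi_lift hK f
    exact IsHomLift.fac' p f.base ((psi hK).map f))

theorem psi_faithful : (psi hK).Faithful where
  map_injective := by
    intro X Y f g h
    have hf := psi_lift hK f
    have hg := psi_lift hK g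
    have h1 : f.base = g.base := by
      rw [IsHomLift.fac p f.base ((psi hK).map f), IsHomLift.fac p g.base ((psi hK).map g)]
      simp only [h]
    obtain ⟨f₁, f₂⟩ := f
    obtain ⟨g₁, g₂⟩ := g
    dsimp only at h1
    subst h1
    have h2 : f₂ = g₂ := by
      apply Subtype.ext
      have h3 : (fm (⟨f₁, f₂⟩ : X ⟶ Y)).1 ≫ K.lift (fo Y).2 f₁ =
        (fm (⟨f₁, g₂⟩ : X ⟶ Y)).1 ≫ K.lift (fo Y).2 f₁ := h
      have h4 : p.IsHomLift (𝟙 X.base) (fm (⟨f₁, f₂⟩ : X ⟶ Y)).1 := (fm (⟨f₁, f₂⟩ : X ⟶ Y)).2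
      have h5 : p.IsHomLift (𝟙 X.base) (fm (⟨f₁, g₂⟩ : X ⟶ Y)).1 := (fm (⟨f₁, g₂⟩ : X ⟶ Y)).2
      exact IsCartesian.ext p f₁ (K.lift (fo Y).2 f₁) _ _ h3
    rw [h2]

theorem psi_full : (psi hK).Full where
  map_surjective := by
    intro X Y φ
    change (fo X).1 ⟶ (fo Y).1 at φ
    let f : X.base ⟶ Y.base := eqToHom (fo X).2.symm ≫ p.map φ ≫ eqToHom (fo Y).2
    have hφ : p.IsHomLift f φ := IsHomLift.of_fac p f φ (fo X).2 (fo Y).2 rfl
    refine ⟨⟨f, ⟨IsCartesian.map p f (K.lift (fo Y).2 f) φ, inferInstance⟩⟩, ?_⟩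
    exact IsCartesian.fac p f (K.lift (fo Y).2 f) φ

theorem exists_iso : ∃ (F : 𝒮ᵒᵖ ⥤ Cat.{v₂, u₂})
      (Φ : 𝒳 ⥤ Pseudofunctor.CoGrothendieck F.toPseudofunctor')
      (Ψ : Pseudofunctor.CoGrothendieck F.toPseudofunctor' ⥤ 𝒳),
      Φ ⋙ Ψ = 𝟭 𝒳 ∧ Ψ ⋙ Φ = 𝟭 _ ∧ Φ ⋙ Pseudofunctor.CoGrothendieck.forget F.toPseudofunctor' = p := by
  have := psi_full hK
  have := psi_faithful hK
  obtain ⟨Φ, h1, h2⟩ := exists_strict_inverse (psi hK)
    (fun a => ⟨p.obj a, (⟨a, rfl⟩ : p.Fiber (p.obj a))⟩) (fun b => rfl) (by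
      rintro ⟨S, ⟨a, ha⟩⟩
      change p.obj a = S at ha
      subst ha
      rfl)
  refine ⟨strictF hK, Φ, psi hK, h1, h2, ?_⟩
  rw [← psi_comp, ← Functor.assoc, h1]
  rfl

end ToStrict

end K161.Split
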