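import Groth.Agent.FibCat.K161.Split
import Mathlib.CategoryTheory.FiberedCategory.Grothendieck

/-!
# Splittings from classes of transport morphisms
-/

set_option autoImplicit false
set_option backward.isDefEq.respectTransparency false

open CategoryTheory CategoryTheory.Functor FibCat Opposite

universe v₃ u₃ v₂ u₂ v₁ u₁

namespace K161.Split2

open K161.Basic K161.Split

section FromClass

variable {𝒮 : Type u₁} [Category.{v₁} 𝒮] {𝒳 : Type u₂} [Category.{v₂} 𝒳] {p : 𝒳 ⥤ 𝒮}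

lemma sigma_eq {a b b' : 𝒳} {φ : b ⟶ a} {φ' : b' ⟶ a}
    (h : (⟨b, φ⟩ : Σ b : 𝒳, (b ⟶ a)) = ⟨b', φ'⟩) : ∃ h : b = b', φ = eqToHom h ≫ φ' := by
  obtain ⟨rfl, e⟩ := Sigma.mk.inj_iff.1 h
  exact ⟨rfl, by simpa using eq_of_heq e⟩

lemma isCartesian_of {a b : 𝒳} {φ : a ⟶ b} (h : p.IsCartesian (p.map φ) φ) {R S : 𝒮} {f : R ⟶ S}
    (hf : p.IsHomLift f φ) : p.IsCartesian f φ := by
  obtain ⟨⟩ := hf
  exact h

theorem exists_splitting_of_class (T : MorphismProperty 𝒳) (hid : ∀ a, T (𝟙 a))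
    (hcomp : ∀ {a b c : 𝒳} (f : a ⟶ b) (g : b ⟶ c), T f → T g → T (f ≫ g))
    (hcart : ∀ {a b : 𝒳} (f : a ⟶ b), T f → p.IsCartesian (p.map f) f)
    (hex : ∀ (a : 𝒳) (R : 𝒮) (f : R ⟶ p.obj a),
      ∃! φ : (Σ b : 𝒳, (b ⟶ a)), T φ.2 ∧ p.IsHomLift f φ.2) :
    ∃ K : Cleavage p, K.IsSplitting := by
  have hex' : ∀ {R S : 𝒮} {a : 𝒳} (_ : p.obj a = S) (f : R ⟶ S),
      ∃! φ : (Σ b : 𝒳, (b ⟶ a)), T φ.2 ∧ p.IsHomLift f φ.2 := by
    intro R S a ha f
    subst ha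
    exact hex a R f
  choose c hc hc' using fun {R S : 𝒮} {a : 𝒳} (ha : p.obj a = S) (f : R ⟶ S) => (hex' ha f)
  let K : Cleavage p :=
    { obj := fun ha f => (c ha f).1
      lift := fun ha f => (c ha f).2
      isCartesian := fun ha f => isCartesian_of (hcart _ (hc ha f).1) (hc ha f).2 }
  refine ⟨K, ?_, ?_⟩
  · intro S a ha
    have h1 := hc' ha (𝟙 S) ⟨a, 𝟙 a⟩ ⟨hid a, IsHomLift.id ha⟩
    obtain ⟨h2, h3⟩ := sigma_eq (b := (c ha (𝟙 S)).1) (φ := (c ha (𝟙 S)).2) h1.symm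
    exact ⟨h2, by rw [Category.comp_id] at h3; exact h3⟩
  · intro S T' U f g a ha
    have h0 := (hc ha f).2
    have h0' := (hc (K.obj_proj ha f) g).2
    have h1 := hc' ha (g ≫ f) ⟨_, K.lift (K.obj_proj ha f) g ≫ K.lift ha f⟩
      ⟨hcomp _ _ (hc _ _).1 (hc _ _).1, by
        change p.IsHomLift (g ≫ f) (K.lift (K.obj_proj ha f) g ≫ K.lift ha f)
        infer_instance⟩
    exact sigma_eq (b' := (c ha (g ≫ f)).1) (φ' := (c ha (g ≫ f)).2) h1

end FromClass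

section CoGr

open Pseudofunctor CoGrothendieck

variable {𝒮 : Type u₁} [Category.{v₁} 𝒮] (F : 𝒮ᵒᵖ ⥤ Cat.{v₂, u₂})

/-- transport morphisms of the total category of a strict functor -/
def TM : MorphismProperty (CoGrothendieck F.toPseudofunctor') := fun X Y φ =>
  ∃ h : X.fiber = (F.map φ.base.op).toFunctor.obj Y.fiber, φ.fiber = eqToHom h

variable {F}

lemma TM.id (X : CoGrothendieck F.toPseudofunctor') : TM F (𝟙 X) := ⟨_, id_fiber X⟩

lemma TM.comp {X Y Z : CoGrothendieck F.toPseudofunctor'} (f : X ⟶ Y) (g : Y ⟶ Z) (hf : TM F f)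
    (hg : TM F g) : TM F (f ≫ g) := by
  obtain ⟨h1, h2⟩ := hf
  obtain ⟨h3, h4⟩ := hg
  have h5 := comp_fiber f g
  rw [h2, h4, eqToHom_map] at h5
  refine ⟨?_, h5.trans ?_⟩
  · have h : F.map (g.base.op ≫ f.base.op) = F.map g.base.op ≫ F.map f.base.op := F.map_comp _ _
    have h' := congrArg (fun t => t.toFunctor.obj Z.fiber) h
    refine h1.trans (Eq.trans ?_ h'.symm)
    exact congrArg (F.map f.base.op).toFunctor.obj h3
  · simp

lemma TM.eqToHom {X Y : CoGrothendieck F.toPseudofunctor'} (h : X = Y) : TM F (eqToHom h) := by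
  subst h
  exact TM.id X

lemma TM.isCartesian {X Y : CoGrothendieck F.toPseudofunctor'} (φ : X ⟶ Y) (h : TM F φ) :
    (forget F.toPseudofunctor').IsStronglyCartesian φ.base φ := by
  obtain ⟨R, x⟩ := X
  obtain ⟨S, y⟩ := Y
  obtain ⟨f, m⟩ := φ
  obtain ⟨h1, h2⟩ := h
  change R ⟶ S at f
  change x ⟶ (F.toPseudofunctor'.map f.op.toLoc).toFunctor.obj y at m
  change x = (F.toPseudofunctor'.map f.op.toLoc).toFunctor.obj y at h1
  change m = CategoryTheory.eqToHom h1 at h2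
  subst h1
  simp only [eqToHom_refl] at h2
  subst h2
  exact isStronglyCartesian_homCartesianLift y f

lemma TM.existsUnique (Y : CoGrothendieck F.toPseudofunctor') (R : 𝒮) (f : R ⟶ Y.base) :
    ∃! φ : (Σ X : CoGrothendieck F.toPseudofunctor', (X ⟶ Y)),
      TM F φ.2 ∧ (forget F.toPseudofunctor').IsHomLift f φ.2 := by
  obtain ⟨S, y⟩ := Y
  change R ⟶ S at f
  refine ⟨⟨domainCartesianLift y f, cartesianLift y f⟩, ⟨⟨rfl, rfl⟩, inferInstance⟩, ?_⟩
  rintro ⟨⟨R', x⟩, ⟨f', m⟩⟩ ⟨⟨h1, h2⟩, h3⟩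
  change R' ⟶ S at f'
  change x ⟶ (F.toPseudofunctor'.map f'.op.toLoc).toFunctor.obj y at m
  change x = (F.toPseudofunctor'.map f'.op.toLoc).toFunctor.obj y at h1
  change m = CategoryTheory.eqToHom h1 at h2
  have h4 : R' = R := IsHomLift.domain_eq (forget F.toPseudofunctor') f
    (⟨f', m⟩ : (⟨R', x⟩ : CoGrothendieck F.toPseudofunctor') ⟶ ⟨S, y⟩)
  subst h4
  have h5 : f = f' := IsHomLift.eq_of_isHomLift (forget F.toPseudofunctor')
    (a := (⟨R', x⟩ : CoGrothendieck F.toPseudofunctor')) (b := ⟨S, y⟩) f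
    (⟨f', m⟩ : (⟨R', x⟩ : CoGrothendieck F.toPseudofunctor') ⟶ ⟨S, y⟩)
  subst h5
  subst h1
  simp only [eqToHom_refl] at h2
  subst h2
  rfl

end CoGr

section Transfer

open Pseudofunctor CoGrothendieck

variable {𝒮 : Type u₁} [Category.{v₁} 𝒮] {𝒳 : Type u₂} [Category.{v₂} 𝒳]
    (F : 𝒮ᵒᵖ ⥤ Cat.{v₂, u₂})
    (Φ : 𝒳 ⥤ Pseudofunctor.CoGrothendieck F.toPseudofunctor')
    (Ψ : Pseudofunctor.CoGrothendieck F.toPseudofunctor' ⥤ 𝒳)
    (h₁ : Φ ⋙ Ψ = 𝟭 𝒳) (h₂ : Ψ ⋙ Φ = 𝟭 _)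

include h₁ h₂

theorem exists_isSplitting : ∃ K : Cleavage (Φ ⋙ forget F.toPseudofunctor'), K.IsSplitting := by
  let E : 𝒳 ≌ CoGrothendieck F.toPseudofunctor' :=
    CategoryTheory.Equivalence.mk Φ Ψ (eqToIso h₁.symm) (eqToIso h₂)
  have hfull : Φ.Full := inferInstanceAs E.functor.Full
  have hfaith : Φ.Faithful := inferInstanceAs E.functor.Faithful
  have hcart : ∀ {a b : 𝒳} (f : a ⟶ b), TM F (Φ.map f) →
      (Φ ⋙ forget F.toPseudofunctor').IsStronglyCartesian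
        ((Φ ⋙ forget F.toPseudofunctor').map f) f := by
    intro a b f hf
    have h := TM.isCartesian _ hf
    exact K161.Equiv.sc_of_map (𝒳 := BasedCategory.ofFunctor (Φ ⋙ forget F.toPseudofunctor'))
      (𝒴 := BasedCategory.ofFunctor (forget F.toPseudofunctor')) (F := ⟨Φ, rfl⟩) hfull hfaith
      ((Φ ⋙ forget F.toPseudofunctor').map f) f h
  refine exists_splitting_of_class (fun a b f => TM F (Φ.map f)) ?_ ?_ ?_ ?_
  · intro a
    rw [Φ.map_id]
    exact TM.id _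
  · intro a b c f g hf hg
    rw [Φ.map_comp]
    exact TM.comp _ _ hf hg
  · intro a b f hf
    have := hcart f hf
    infer_instance
  · intro a R f
    change R ⟶ (Φ.obj a).base at f
    obtain ⟨⟨X, φ⟩, ⟨h3, h4⟩, h5⟩ := TM.existsUnique (Φ.obj a) R f
    dsimp only at h3 h4
    have hX : Φ.obj (Ψ.obj X) = X := Functor.congr_obj h₂ X
    have ha : Ψ.obj (Φ.obj a) = a := Functor.congr_obj h₁ a
    let φ' : Ψ.obj X ⟶ a := Φ.preimage (eqToHom hX ≫ φ)
    have e1 : Φ.map φ' = eqToHom hX ≫ φ := Φ.map_preimage _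
    refine ⟨⟨Ψ.obj X, φ'⟩, ⟨?_, ?_⟩, ?_⟩
    · change TM F (Φ.map φ')
      rw [e1]
      exact TM.comp _ _ (TM.eqToHom _) h3
    · dsimp only
      have h6 : (forget F.toPseudofunctor').IsHomLift f (Φ.map φ') := by
        rw [e1]; infer_instance
      exact K161.Equiv.isHomLift_of_map (𝒳 := BasedCategory.ofFunctor (Φ ⋙ forget F.toPseudofunctor'))
        (𝒴 := BasedCategory.ofFunctor (forget F.toPseudofunctor')) (F := ⟨Φ, rfl⟩) h6
    · rintro ⟨b, ψ⟩ ⟨h7, h8⟩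
      change TM F (Φ.map ψ) at h7
      have h9 : (forget F.toPseudofunctor').IsHomLift f (Φ.map ψ) :=
        K161.Equiv.isHomLift_map (𝒳 := BasedCategory.ofFunctor (Φ ⋙ forget F.toPseudofunctor'))
        (𝒴 := BasedCategory.ofFunctor (forget F.toPseudofunctor')) (F := ⟨Φ, rfl⟩) h8
      obtain ⟨h10, h11⟩ := sigma_eq (h5 ⟨Φ.obj b, Φ.map ψ⟩ ⟨h7, h9⟩)
      have h12 : b = Ψ.obj X := by
        rw [← h10]; exact (Functor.congr_obj h₁ b).symm
      subst h12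
      have : ψ = φ' := by
        apply Φ.map_injective
        rw [e1, h11]
      rw [this]

end Transfer

end K161.Split2
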