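import Groth.Prelude.Def_FibCat2
import Groth.Prelude.Def_W4stkcategoriessitesFib

/-!
# 2-cartesian squares of plain categories
-/

set_option autoImplicit false
set_option backward.isDefEq.respectTransparency false

open CategoryTheory CategoryTheory.Limits FibCat

universe v₅ u₅ v₄ u₄ v₃ u₃ v₂ u₂ v u

namespace K161.TwoCart

variable {A : Type u₂} {B : Type u₃} {D : Type u₄} {X : Type u₅} [Category.{v₂} A] [Category.{v₃} B]
  [Category.{v₄} D] [Category.{v₅} X]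

/-- Elementwise criterion. -/
theorem isTwoCart_of (T : X ⥤ A) (L : X ⥤ D) (F : A ⥤ B) (G : D ⥤ B) (e : T ⋙ F ≅ L ⋙ G)
    (h1 : ∀ (x y : X) (f g : x ⟶ y), T.map f = T.map g → L.map f = L.map g → f = g)
    (h2 : ∀ (x y : X) (a : T.obj x ⟶ T.obj y) (b : L.obj x ⟶ L.obj y),
        F.map a ≫ e.hom.app y = e.hom.app x ≫ G.map b → ∃ f : x ⟶ y, T.map f = a ∧ L.map f = b)
    (h3 : ∀ (a : A) (d : D) (φ : F.obj a ≅ G.obj d), ∃ (x : X) (α : T.obj x ≅ a) (β : L.obj x ≅ d),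
        F.map α.hom ≫ φ.hom = e.hom.app x ≫ G.map β.hom) : IsTwoCart T L F G e :=
  { faithful := ⟨fun {x y f g} hfg => h1 x y f g (congrArg CategoricalPullback.Hom.fst hfg)
      (congrArg CategoricalPullback.Hom.snd hfg)⟩
    full := ⟨fun {x y} f => by
      obtain ⟨g, hg1, hg2⟩ := h2 x y f.fst f.snd f.w
      exact ⟨g, CategoricalPullback.hom_ext hg1 hg2⟩⟩
    essSurj := ⟨fun z => by
      obtain ⟨x, α, β, hc⟩ := h3 z.fst z.snd z.iso
      exact ⟨x, ⟨CategoricalPullback.mkIso α β hc⟩⟩⟩ }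

end K161.TwoCart
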